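import Groth.Agent.FrobAlgLib.Flat

/-!
Universe change for the relative Frobenius.
-/

set_option autoImplicit false
set_option backward.isDefEq.respectTransparency false
set_option backward.isDefEq.respectTransparency.types false

open TensorProduct

universe u v w

namespace Groth.Agent.FrobAlgLib

variable (p : ℕ) [Fact p.Prime] (A : Type u) [CommRing A] [CharP A p]
  (B : Type v) [CommRing B] [Algebra A B] [CharP B p]
  (A' B' : Type w) [CommRing A'] [CharP A' p] [CommRing B'] [Algebra A' B'] [CharP B' p]

theorem exists_relFrob_equiv (eA : A ≃+* A') (eB : B ≃+* B')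
    (hc : ∀ a, eB (algebraMap A B a) = algebraMap A' B' (eA a)) :
    ∃ E : FrobAlg.BaseChange p A B →+* FrobAlg.BaseChange p A' B', Function.Bijective E ∧
      FrobAlg.relFrob p A B = eB.symm.toRingHom.comp ((FrobAlg.relFrob p A' B').comp E) := by
  let P := FrobAlg.BaseChange p A B
  let P' := FrobAlg.BaseChange p A' B'
  letI : Algebra A P' := ((algebraMap A' P').comp eA.toRingHom).toAlgebra
  let iL : B →ₐ[A] P' :=
    { toRingHom := (Algebra.TensorProduct.includeLeftRingHom : B' →+* P').comp eB.toRingHom
      commutes' := fun a => by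
        change (eB (algebraMap A B a)) ⊗ₜ[A'] (1 : FrobAlg.Twist p A') = algebraMap A' P' (eA a)
        rw [hc]; rfl }
  let iR : FrobAlg.Twist p A →ₐ[A] P' :=
    { toRingHom := ((Algebra.TensorProduct.includeRight : FrobAlg.Twist p A' →ₐ[A'] P').toRingHom.comp
        ((FrobAlg.toTwist p A').toRingHom.comp eA.toRingHom)).comp (FrobAlg.toTwist p A).symm.toRingHom
      commutes' := fun a => by
        change (1 : B') ⊗ₜ[A'] FrobAlg.toTwist p A' (eA ((FrobAlg.toTwist p A).symm (algebraMap A (FrobAlg.Twist p A) a))) =
          algebraMap A' P' (eA a)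
        rw [FrobAlg.algebraMap_twist, RingEquiv.symm_apply_apply, map_pow,
          ← (Algebra.TensorProduct.includeRight : FrobAlg.Twist p A' →ₐ[A'] P').commutes (eA a)]
        rfl }
  let E : P →ₐ[A] P' := Algebra.TensorProduct.lift iL iR fun _ _ => Commute.all _ _
  letI : Algebra A' P := ((algebraMap A P).comp eA.symm.toRingHom).toAlgebra
  let jL' : B' →ₐ[A'] P :=
    { toRingHom := (Algebra.TensorProduct.includeLeftRingHom : B →+* P).comp eB.symm.toRingHom
      commutes' := fun a => by
        change (eB.symm (algebraMap A' B' a)) ⊗ₜ[A] (1 : FrobAlg.Twist p A) = algebraMap A P (eA.symm a)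
        rw [← eA.apply_symm_apply a, ← hc, RingEquiv.symm_apply_apply, RingEquiv.apply_symm_apply]; rfl }
  let jR' : FrobAlg.Twist p A' →ₐ[A'] P :=
    { toRingHom := ((Algebra.TensorProduct.includeRight : FrobAlg.Twist p A →ₐ[A] P).toRingHom.comp
        ((FrobAlg.toTwist p A).toRingHom.comp eA.symm.toRingHom)).comp (FrobAlg.toTwist p A').symm.toRingHom
      commutes' := fun a => by
        change (1 : B) ⊗ₜ[A] FrobAlg.toTwist p A (eA.symm ((FrobAlg.toTwist p A').symm (algebraMap A' (FrobAlg.Twist p A') a))) =
          algebraMap A P (eA.symm a)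
        rw [FrobAlg.algebraMap_twist, RingEquiv.symm_apply_apply, map_pow,
          ← (Algebra.TensorProduct.includeRight : FrobAlg.Twist p A →ₐ[A] P).commutes (eA.symm a)]
        rfl }
  let E' : P' →ₐ[A'] P := Algebra.TensorProduct.lift jL' jR' fun _ _ => Commute.all _ _
  have hb : Function.Bijective E := by
    refine Function.bijective_iff_has_inverse.2 ⟨E', fun x => ?_, fun x => ?_⟩
    · induction x using TensorProduct.induction_on with
      | zero => simp only [map_zero]
      | add x y hx hy => simp only [map_add, hx, hy]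
      | tmul b a =>
        simp only [E, Algebra.TensorProduct.lift_tmul, map_mul]
        simp [E', iL, iR, jL', jR', P', P]
    · induction x using TensorProduct.induction_on with
      | zero => simp only [map_zero]
      | add x y hx hy => simp only [map_add, hx, hy]
      | tmul b a =>
        simp only [E', Algebra.TensorProduct.lift_tmul, map_mul]
        simp [E, iL, iR, jL', jR', P', P]
  have key : FrobAlg.relFrob p A B = eB.symm.toRingHom.comp ((FrobAlg.relFrob p A' B').comp E.toRingHom) := by
    refine RingHom.ext fun x => ?_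
    induction x using TensorProduct.induction_on with
    | zero => simp only [map_zero]
    | add x y hx hy => simp only [map_add, hx, hy]
    | tmul b a =>
      change b ^ p * algebraMap A B ((FrobAlg.toTwist p A).symm a) = eB.symm (FrobAlg.relFrob p A' B' (iL b * iR a))
      rw [map_mul, map_mul]
      change b ^ p * algebraMap A B ((FrobAlg.toTwist p A).symm a) =
        eB.symm (FrobAlg.relFrob p A' B' (eB b ⊗ₜ[A'] 1)) *
          eB.symm (FrobAlg.relFrob p A' B' (1 ⊗ₜ[A'] FrobAlg.toTwist p A' (eA ((FrobAlg.toTwist p A).symm a))))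
      rw [relFrob_left, relFrob_right, ← hc, ← map_pow, RingEquiv.symm_apply_apply, RingEquiv.symm_apply_apply]
  exact ⟨E.toRingHom, hb, key⟩

theorem bijective_relFrob_iff_of_equiv (eA : A ≃+* A') (eB : B ≃+* B')
    (hc : ∀ a, eB (algebraMap A B a) = algebraMap A' B' (eA a)) :
    Function.Bijective (FrobAlg.relFrob p A B) ↔ Function.Bijective (FrobAlg.relFrob p A' B') := by
  obtain ⟨E, hb, key⟩ := exists_relFrob_equiv p A B A' B' eA eB hc
  rw [key, RingHom.coe_comp, RingHom.coe_comp]
  rw [show ⇑eB.symm.toRingHom = eB.symm from rfl, eB.symm.bijective.of_comp_iff',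
    Function.Bijective.of_comp_iff _ hb]

theorem flat_relFrob_of_equiv (eA : A ≃+* A') (eB : B ≃+* B')
    (hc : ∀ a, eB (algebraMap A B a) = algebraMap A' B' (eA a)) [Algebra.Smooth A B] :
    (FrobAlg.relFrob p A B).Flat := by
  haveI : Algebra.Smooth A' B' := by
    refine RingHom.smooth_algebraMap.1 ?_
    have e : algebraMap A' B' = (eB.toRingHom.comp (algebraMap A B)).comp eA.symm.toRingHom :=
      RingHom.ext fun a => by
        change algebraMap A' B' a = eB (algebraMap A B (eA.symm a))
        rw [hc, RingEquiv.apply_symm_apply]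
    rw [e]
    exact (RingHom.Smooth.of_bijective (f := eA.symm.toRingHom) eA.symm.bijective).comp
      ((RingHom.smooth_algebraMap.2 (inferInstance : Algebra.Smooth A B)).comp
        (RingHom.Smooth.of_bijective (f := eB.toRingHom) eB.bijective))
  obtain ⟨E, hb, key⟩ := exists_relFrob_equiv p A B A' B' eA eB hc
  rw [key]
  exact ((RingHom.Flat.of_bijective hb).comp (flat_relFrob p A' B')).comp (RingHom.Flat.of_bijective eB.symm.bijective)



theorem flat_relFrob' [Algebra.Smooth A B] : (FrobAlg.relFrob p A B).Flat := by
  let eA := (ULift.ringEquiv.{u, v} (R := A)).symm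
  let eB := (ULift.ringEquiv.{v, u} (R := B)).symm
  haveI : CharP (ULift.{v} A) p := charP_of_injective_ringHom (f := eA.toRingHom) eA.injective p
  haveI : CharP (ULift.{u} B) p := charP_of_injective_ringHom (f := eB.toRingHom) eB.injective p
  exact @flat_relFrob_of_equiv p _ A _ _ B _ _ _ (ULift.{v} A) (ULift.{u} B) _ _ _
    ((eB.toRingHom.comp (algebraMap A B)).comp eA.symm.toRingHom).toAlgebra _ eA eB
    (fun a => by
      rw [RingHom.algebraMap_toAlgebra]
      simp) _

theorem etale_comp {R S T : Type*} [CommRing R] [CommRing S] [CommRing T] {f : R →+* S} {g : S →+* T}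
    (hf : f.Etale) (hg : g.Etale) : (g.comp f).Etale := by
  algebraize [f, g, g.comp f]
  haveI : Algebra.Etale R S := hf
  haveI : Algebra.Etale S T := hg
  exact Algebra.Etale.comp R S T

omit [CharP A p] [CharP B p] [CharP A' p] [CharP B' p] in
theorem etale_iff_of_equiv (eA : A ≃+* A') (eB : B ≃+* B')
    (hc : ∀ a, eB (algebraMap A B a) = algebraMap A' B' (eA a)) : Algebra.Etale A B ↔ Algebra.Etale A' B' := by
  have e : algebraMap A' B' = (eB.toRingHom.comp (algebraMap A B)).comp eA.symm.toRingHom :=
    RingHom.ext fun a => by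
      change algebraMap A' B' a = eB (algebraMap A B (eA.symm a))
      rw [hc, RingEquiv.apply_symm_apply]
  have e' : algebraMap A B = (eB.symm.toRingHom.comp (algebraMap A' B')).comp eA.toRingHom :=
    RingHom.ext fun a => by
      change algebraMap A B a = eB.symm (algebraMap A' B' (eA a))
      rw [← hc, RingEquiv.symm_apply_apply]
  constructor <;> intro h <;> refine RingHom.etale_algebraMap.1 ?_
  · rw [e]
    exact etale_comp (RingHom.Etale.of_bijective (f := eA.symm.toRingHom) eA.symm.bijective)
      (etale_comp (RingHom.etale_algebraMap.2 h)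
        (RingHom.Etale.of_bijective (f := eB.toRingHom) eB.bijective))
  · rw [e']
    exact etale_comp (RingHom.Etale.of_bijective (f := eA.toRingHom) eA.bijective)
      (etale_comp (RingHom.etale_algebraMap.2 h)
        (RingHom.Etale.of_bijective (f := eB.symm.toRingHom) eB.symm.bijective))

theorem etale_iff_bijective_relFrob' [Algebra.FinitePresentation A B] :
    Algebra.Etale A B ↔ Function.Bijective (FrobAlg.relFrob p A B) := by
  let eA := (ULift.ringEquiv.{u, v} (R := A)).symm
  let eB := (ULift.ringEquiv.{v, u} (R := B)).symm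
  haveI : CharP (ULift.{v} A) p := charP_of_injective_ringHom (f := eA.toRingHom) eA.injective p
  haveI : CharP (ULift.{u} B) p := charP_of_injective_ringHom (f := eB.toRingHom) eB.injective p
  letI : Algebra (ULift.{v} A) (ULift.{u} B) := ((eB.toRingHom.comp (algebraMap A B)).comp eA.symm.toRingHom).toAlgebra
  have hc : ∀ a, eB (algebraMap A B a) = algebraMap (ULift.{v} A) (ULift.{u} B) (eA a) := fun a => by
    rw [RingHom.algebraMap_toAlgebra]
    simp
  rw [etale_iff_of_equiv A B _ _ eA eB hc, bijective_relFrob_iff_of_equiv p A B _ _ eA eB hc]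
  haveI : Algebra.FinitePresentation (ULift.{v} A) (ULift.{u} B) :=
    RingHom.finitePresentation_algebraMap.1
      (((RingHom.FinitePresentation.of_bijective (f := eB.toRingHom) eB.bijective).comp
        (RingHom.finitePresentation_algebraMap.2 inferInstance)).comp
        (RingHom.FinitePresentation.of_bijective (f := eA.symm.toRingHom) eA.symm.bijective))
  exact ⟨fun h => bijective_of_etale p _ _, fun h => { formallyEtale := formallyEtale_of_bijective p _ _ h, finitePresentation := inferInstance }⟩

end Groth.Agent.FrobAlgLib
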