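import Mathlib
import Groth.Prelude.Def_FrobAlg

/-!
# Relative Frobenius: formal etaleness and unramifiedness
-/

open TensorProduct

namespace Groth.Agent.FrobAlgLib

universe u

variable (p : ℕ) [Fact p.Prime] (A : Type u) [CommRing A] [CharP A p]
  (B : Type u) [CommRing B] [Algebra A B] [CharP B p]

theorem relFrob_tmul (b : B) (a : FrobAlg.Twist p A) :
    FrobAlg.relFrob p A B (b ⊗ₜ[A] a) = b ^ p * algebraMap A B ((FrobAlg.toTwist p A).symm a) := rfl

theorem relFrob_left (b : B) : FrobAlg.relFrob p A B (b ⊗ₜ[A] 1) = b ^ p := by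
  rw [relFrob_tmul, map_one, map_one, mul_one]

theorem relFrob_right (a : A) : FrobAlg.relFrob p A B (1 ⊗ₜ[A] FrobAlg.toTwist p A a) = algebraMap A B a := by
  rw [relFrob_tmul, one_pow, one_mul, RingEquiv.symm_apply_apply]

omit [CommRing B] [Algebra A B] [CharP B p] in
theorem natCast_eq_zero (C : Type u) [CommRing C] [Algebra A C] : (p : C) = 0 := by
  rw [← map_natCast (algebraMap A C), CharP.cast_eq_zero, map_zero]

omit [CommRing B] [Algebra A B] [CharP B p] in
theorem charP_or_subsingleton (C : Type u) [CommRing C] [Algebra A C] : CharP C p ∨ Subsingleton C := by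
  rcases subsingleton_or_nontrivial C with h | h
  · exact Or.inr h
  · exact Or.inl ((CharP.charP_iff_prime_eq_zero (Fact.out : p.Prime)).2 (natCast_eq_zero p A C))

omit [CommRing B] [Algebra A B] [CharP B p] in
/-- Two elements congruent modulo a square-zero ideal have the same `p`-th power. -/
theorem pow_eq_of_sub_mem {C : Type u} [CommRing C] [Algebra A C] {I : Ideal C} (hI : I ^ 2 = ⊥) {x y : C}
    (h : x - y ∈ I) : x ^ p = y ^ p := by
  obtain ⟨c, hc⟩ := exists_add_pow_prime_eq (Fact.out : p.Prime) y (x - y)
  have h2 : (x - y) ^ 2 = 0 := by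
    have := Ideal.pow_mem_pow h 2
    rwa [hI, Ideal.mem_bot] at this
  rw [add_sub_cancel] at hc
  rw [hc, natCast_eq_zero p A C, pow_eq_zero_of_le (Fact.out : p.Prime).two_le h2]
  ring

/-- An `A`-algebra with bijective relative Frobenius is formally étale. -/
theorem formallyEtale_of_bijective (h : Function.Bijective (FrobAlg.relFrob p A B)) :
    Algebra.FormallyEtale A B := by
  rw [Algebra.FormallyEtale.iff_comp_bijective]
  intro C _ _ I hI
  have hI' : ∀ x y : C, Ideal.Quotient.mk I x = Ideal.Quotient.mk I y → x ^ p = y ^ p := fun x y hxy =>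
    pow_eq_of_sub_mem p A hI (Ideal.Quotient.eq.1 hxy)
  constructor
  · intro g₁ g₂ he
    refine AlgHom.ext fun b => ?_
    obtain ⟨z, rfl⟩ := h.2 b
    induction z using TensorProduct.induction_on with
    | zero => rw [map_zero, map_zero, map_zero]
    | tmul b a =>
      rw [relFrob_tmul, map_mul, map_mul, map_pow, map_pow, AlgHom.commutes, AlgHom.commutes,
        hI' (g₁ b) (g₂ b) (AlgHom.congr_fun he b)]
    | add x y hx hy => rw [map_add, map_add, map_add, hx, hy]
  · intro f
    rcases charP_or_subsingleton p A C with hC | hC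
    swap
    · haveI : Subsingleton (C ⧸ I) := Ideal.Quotient.mk_surjective.subsingleton
      let z : B →ₐ[A] C :=
        { toFun := fun _ => 0
          map_one' := Subsingleton.elim _ _
          map_mul' := fun _ _ => Subsingleton.elim _ _
          map_zero' := rfl
          map_add' := fun _ _ => Subsingleton.elim _ _
          commutes' := fun _ => Subsingleton.elim _ _ }
      exact ⟨z, AlgHom.ext fun b => Subsingleton.elim _ _⟩
    haveI := hC
    choose σ hσ using fun q : C ⧸ I => Ideal.Quotient.mk_surjective (I := I) q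
    let h₁ : B →ₐ[A] FrobAlg.Target p A C :=
      { toFun := fun b => FrobAlg.toTarget p A C (σ (f b) ^ p)
        map_one' := by
          rw [hI' (σ (f 1)) 1 (by rw [hσ, map_one, map_one]), one_pow, map_one]
        map_mul' := fun a b => by
          rw [← map_mul, ← mul_pow]
          exact congrArg _ (hI' _ _ (by rw [hσ, map_mul, map_mul, hσ, hσ]))
        map_zero' := by
          rw [hI' (σ (f 0)) 0 (by rw [hσ, map_zero, map_zero]), zero_pow (Fact.out : p.Prime).ne_zero, map_zero]
        map_add' := fun a b => by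
          rw [← map_add, ← add_pow_char]
          exact congrArg _ (hI' _ _ (by rw [hσ, map_add, map_add, hσ, hσ]))
        commutes' := fun a => by
          rw [FrobAlg.algebraMap_target]
          exact congrArg _ (hI' _ _ (by rw [hσ, AlgHom.commutes]; rfl)) }
    let G : FrobAlg.BaseChange p A B →+* C := ((FrobAlg.toTarget p A C).symm : FrobAlg.Target p A C →+* C).comp
      (Algebra.TensorProduct.lift h₁ (FrobAlg.inclHom p A C) (fun _ _ => Commute.all _ _)).toRingHom
    have hG : ∀ b a, G (b ⊗ₜ[A] a) = σ (f b) ^ p * algebraMap A C ((FrobAlg.toTwist p A).symm a) := fun b a => rfl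
    let e := RingEquiv.ofBijective (FrobAlg.relFrob p A B) h
    let g : B →ₐ[A] C :=
      { toRingHom := G.comp e.symm.toRingHom
        commutes' := fun a => by
          show G (e.symm (algebraMap A B a)) = _
          rw [← relFrob_right p A B a, show e.symm (FrobAlg.relFrob p A B (1 ⊗ₜ[A] FrobAlg.toTwist p A a)) =
            1 ⊗ₜ[A] FrobAlg.toTwist p A a from e.symm_apply_apply (1 ⊗ₜ[A] FrobAlg.toTwist p A a), hG,
            hI' (σ (f 1)) 1 (by rw [hσ, map_one, map_one]), one_pow, one_mul, RingEquiv.symm_apply_apply] }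
    refine ⟨g, AlgHom.ext fun b => ?_⟩
    obtain ⟨z, rfl⟩ := h.2 b
    show Ideal.Quotient.mk I (G (e.symm (FrobAlg.relFrob p A B z))) = f _
    rw [show e.symm (FrobAlg.relFrob p A B z) = z from e.symm_apply_apply z]
    induction z using TensorProduct.induction_on with
    | zero => simp only [map_zero]
    | tmul b a =>
      rw [hG, relFrob_tmul, map_mul, map_mul, map_pow, map_pow, hσ, AlgHom.commutes]
      rfl
    | add x y hx hy => rw [map_add, map_add, hx, hy, map_add, map_add]

/-- Formally unramified over the base iff over the Frobenius twist. -/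
theorem formallyUnramified_iff :
    Algebra.FormallyUnramified A B ↔
      @Algebra.FormallyUnramified (FrobAlg.BaseChange p A B) B _ _ (FrobAlg.relFrob p A B).toAlgebra := by
  letI alg := (FrobAlg.relFrob p A B).toAlgebra
  constructor
  · intro h
    rw [Algebra.FormallyUnramified.iff_comp_injective]
    intro C _ algC I hI g₁ g₂ he
    letI : Algebra A C := ((algebraMap (FrobAlg.BaseChange p A B) C).comp
      ((Algebra.TensorProduct.includeRight : FrobAlg.Twist p A →ₐ[A] FrobAlg.BaseChange p A B).toRingHom.comp
        (FrobAlg.toTwist p A).toRingHom)).toAlgebra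
    have hcomm : ∀ (g : B →ₐ[FrobAlg.BaseChange p A B] C) (a : A), g (algebraMap A B a) = algebraMap A C a :=
      fun g a => (congrArg g (relFrob_right p A B a).symm).trans (g.commutes _)
    let r₁ : B →ₐ[A] C := { toRingHom := g₁.toRingHom, commutes' := hcomm g₁ }
    let r₂ : B →ₐ[A] C := { toRingHom := g₂.toRingHom, commutes' := hcomm g₂ }
    have := Algebra.FormallyUnramified.comp_injective (R := A) I hI (a₁ := r₁) (a₂ := r₂)
      (AlgHom.ext fun b => AlgHom.congr_fun he b)
    exact AlgHom.ext fun b => AlgHom.congr_fun this b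
  · intro h
    rw [Algebra.FormallyUnramified.iff_comp_injective]
    intro C _ _ I hI g₁ g₂ he
    letI : Algebra (FrobAlg.BaseChange p A B) C := (g₁.toRingHom.comp (FrobAlg.relFrob p A B)).toAlgebra
    have hagree : ∀ z, g₂ (FrobAlg.relFrob p A B z) = g₁ (FrobAlg.relFrob p A B z) := fun z => by
      induction z using TensorProduct.induction_on with
      | zero => simp only [map_zero]
      | tmul b a =>
        rw [relFrob_tmul, map_mul, map_mul, map_pow, map_pow, AlgHom.commutes, AlgHom.commutes,
          pow_eq_of_sub_mem p A hI (x := g₂ b) (y := g₁ b) (Ideal.Quotient.eq.1 (AlgHom.congr_fun he.symm b))]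
      | add x y hx hy => simp only [map_add, hx, hy]
    let s₁ : B →ₐ[FrobAlg.BaseChange p A B] C := { toRingHom := g₁.toRingHom, commutes' := fun z => rfl }
    let s₂ : B →ₐ[FrobAlg.BaseChange p A B] C := { toRingHom := g₂.toRingHom, commutes' := fun z => hagree z }
    have := Algebra.FormallyUnramified.comp_injective (R := FrobAlg.BaseChange p A B) I hI (a₁ := s₁) (a₂ := s₂)
      (AlgHom.ext fun b => AlgHom.congr_fun he b)
    exact AlgHom.ext fun b => AlgHom.congr_fun this b

/-- The relative Frobenius of an étale algebra is bijective. -/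
theorem bijective_of_etale [Algebra.Etale A B] : Function.Bijective (FrobAlg.relFrob p A B) := by
  let BC := FrobAlg.BaseChange p A B
  let tR : A →+* BC := (Algebra.TensorProduct.includeRight : FrobAlg.Twist p A →ₐ[A] BC).toRingHom.comp
    (FrobAlg.toTwist p A).toRingHom
  have hp0 : (p : BC) = 0 := natCast_eq_zero p A BC
  have key : ∀ y : BC, y ^ p = (FrobAlg.relFrob p A B y) ⊗ₜ[A] (1 : FrobAlg.Twist p A) := fun y => by
    induction y using TensorProduct.induction_on with
    | zero => rw [zero_pow (Fact.out : p.Prime).ne_zero, map_zero, TensorProduct.zero_tmul]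
    | tmul b a =>
      rw [Algebra.TensorProduct.tmul_pow, relFrob_tmul p A B, mul_comm, ← Algebra.smul_def, TensorProduct.smul_tmul]
      congr 1
      rw [Algebra.smul_def, FrobAlg.algebraMap_twist, mul_one, map_pow, RingEquiv.apply_symm_apply]
    | add y z hy hz =>
      obtain ⟨c, hc⟩ := exists_add_pow_prime_eq (Fact.out : p.Prime) y z
      rw [hc, hy, hz, map_add, TensorProduct.add_tmul, hp0, zero_mul, zero_mul, zero_mul, add_zero]
  letI alg : Algebra BC B := (FrobAlg.relFrob p A B).toAlgebra
  haveI : Algebra.FormallyUnramified BC B := (formallyUnramified_iff p A B).1 inferInstance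
  haveI : Algebra.Etale BC B := by
    -- both are étale over `A` through the right-hand factor
    have hTA : (FrobAlg.relFrob p A B).comp tR = algebraMap A B := RingHom.ext fun a => relFrob_right p A B a
    have h1 : tR.Etale := by
      have h0 : ((Algebra.TensorProduct.comm A (FrobAlg.Twist p A) B).toRingEquiv.toRingHom.comp
          (algebraMap (FrobAlg.Twist p A) (FrobAlg.Twist p A ⊗[A] B))).Etale :=
        RingHom.Etale.stableUnderComposition _ _ (RingHom.etale_algebraMap.2 inferInstance)
          (RingHom.Etale.of_bijective (Algebra.TensorProduct.comm A (FrobAlg.Twist p A) B).bijective)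
      have h2 : tR = ((Algebra.TensorProduct.comm A (FrobAlg.Twist p A) B).toRingEquiv.toRingHom.comp
          (algebraMap (FrobAlg.Twist p A) (FrobAlg.Twist p A ⊗[A] B))).comp (FrobAlg.toTwist p A).toRingHom :=
        RingHom.ext fun a => rfl
      rw [h2]
      exact RingHom.Etale.stableUnderComposition _ _ (RingHom.Etale.of_bijective (f := (FrobAlg.toTwist p A).toRingHom)
        (FrobAlg.toTwist p A).bijective) h0
    letI algT : Algebra A BC := tR.toAlgebra
    haveI : @Algebra.Etale A BC _ _ algT := h1
    haveI : @IsScalarTower A BC B algT.toSMul _ _ := @IsScalarTower.of_algebraMap_eq A BC B _ _ _ algT _ _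
      fun a => (RingHom.congr_fun hTA a).symm
    exact Algebra.Etale.of_restrictScalars A BC B
  have hsurjSpec : Function.Surjective (PrimeSpectrum.comap (algebraMap BC B)) := by
    intro q
    have hker : RingHom.ker (algebraMap BC B) ≤ q.asIdeal := fun y hy => by
      refine q.2.mem_of_pow_mem p ?_
      rw [key, show FrobAlg.relFrob p A B y = 0 from hy, TensorProduct.zero_tmul]
      exact zero_mem _
    haveI : Algebra.IsIntegral BC B := ⟨fun b => by
      refine IsIntegral.of_pow (n := p) (Fact.out : p.Prime).pos ?_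
      rw [← relFrob_left p A B b]
      exact isIntegral_algebraMap (R := BC) (A := B) (x := b ⊗ₜ[A] 1)⟩
    obtain ⟨Q, -, hQ, hQc⟩ := Ideal.exists_ideal_over_prime_of_isIntegral q.asIdeal (⊥ : Ideal B) hker
    exact ⟨⟨Q, hQ⟩, PrimeSpectrum.ext hQc⟩
  haveI : Module.FaithfullyFlat BC B := Module.FaithfullyFlat.of_comap_surjective hsurjSpec
  -- the multiplication `B ⊗ B → B` is bijective
  have hinl : ∀ b : B, (b ⊗ₜ[BC] (1 : B)) = (1 : B) ⊗ₜ[BC] b := by
    have hp' : (p : B ⊗[BC] B) = 0 := by
      rw [← map_natCast (algebraMap B (B ⊗[BC] B)), CharP.cast_eq_zero, map_zero]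
    -- the generators of the diagonal ideal are nilpotent
    have hnil : KaehlerDifferential.ideal BC B ≤ nilradical (B ⊗[BC] B) := by
      rw [← KaehlerDifferential.span_range_eq_ideal, Ideal.span_le]
      rintro _ ⟨b, rfl⟩
      refine ⟨p, ?_⟩
      obtain ⟨c, hc⟩ := exists_add_pow_prime_eq (Fact.out : p.Prime) ((1 : B) ⊗ₜ[BC] b - b ⊗ₜ 1) (b ⊗ₜ[BC] (1 : B))
      rw [sub_add_cancel, hp', zero_mul, zero_mul, zero_mul, add_zero,
        Algebra.TensorProduct.tmul_pow, Algebra.TensorProduct.tmul_pow, one_pow] at hc
      have hmove : (b ^ p) ⊗ₜ[BC] (1 : B) = (1 : B) ⊗ₜ[BC] (b ^ p) := by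
        have e1 : (algebraMap BC B) (b ⊗ₜ[A] 1) = b ^ p := relFrob_left p A B b
        rw [← e1, Algebra.algebraMap_eq_smul_one, TensorProduct.smul_tmul]
      rw [hmove] at hc
      show _ = (0 : B ⊗[BC] B)
      exact left_eq_add.1 (hc.trans (add_comm _ _))
    obtain ⟨e, he, heI⟩ := (Ideal.isIdempotentElem_iff_of_fg _ (KaehlerDifferential.ideal_fg BC B)).1
      (Ideal.cotangent_subsingleton_iff _ |>.1 (inferInstanceAs (Subsingleton Ω[B⁄BC])))
    have he0 : e = 0 := by
      obtain ⟨n, hn⟩ := hnil (heI ▸ Submodule.mem_span_singleton_self e : e ∈ KaehlerDifferential.ideal BC B)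
      have h1 : e ^ (n + 1) = e := he.pow_succ_eq n
      rw [← h1, pow_succ, hn, zero_mul]
    intro b
    have hb : (1 : B) ⊗ₜ[BC] b - b ⊗ₜ[BC] (1 : B) ∈ KaehlerDifferential.ideal BC B := by
      show _ ∈ RingHom.ker _
      simp [KaehlerDifferential.ideal]
    rw [heI, he0] at hb
    have h0 : (1 : B) ⊗ₜ[BC] b - b ⊗ₜ[BC] (1 : B) = 0 := by simpa using hb
    exact (sub_eq_zero.1 h0).symm
  have hbij : Function.Bijective ((Algebra.linearMap BC B).lTensor B) := by
    have h1 : ∀ z : B ⊗[BC] BC, (Algebra.linearMap BC B).lTensor B z = (TensorProduct.rid BC B z) ⊗ₜ[BC] (1 : B) := fun z => by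
      induction z using TensorProduct.induction_on with
      | zero => simp
      | tmul b a => simp [Algebra.algebraMap_eq_smul_one, TensorProduct.tmul_smul, TensorProduct.smul_tmul']
      | add x y hx hy => simp [hx, hy, TensorProduct.add_tmul]
    constructor
    · intro x y hxy
      rw [h1, h1] at hxy
      have := congrArg (Algebra.TensorProduct.lmul' BC (S := B)) hxy
      simp only [Algebra.TensorProduct.lmul'_apply_tmul, mul_one] at this
      exact (TensorProduct.rid BC B).injective this
    · intro z
      induction z using TensorProduct.induction_on with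
      | zero => exact ⟨0, map_zero _⟩
      | tmul b b' =>
        refine ⟨(b * b') ⊗ₜ[BC] 1, ?_⟩
        rw [LinearMap.lTensor_tmul, Algebra.linearMap_apply, map_one,
          ← mul_one b, ← one_mul b', ← Algebra.TensorProduct.tmul_mul_tmul, ← hinl, Algebra.TensorProduct.tmul_mul_tmul]
        simp
      | add x y hx hy =>
        obtain ⟨a, rfl⟩ := hx
        obtain ⟨c, rfl⟩ := hy
        exact ⟨a + c, map_add _ _ _⟩
  exact ⟨(Module.FaithfullyFlat.lTensor_injective_iff_injective BC B (Algebra.linearMap BC B)).1 hbij.1,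
    (Module.FaithfullyFlat.lTensor_surjective_iff_surjective BC B (Algebra.linearMap BC B)).1 hbij.2⟩

end Groth.Agent.FrobAlgLib
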