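import Mathlib

/-!
# Jacobians modulo divergences in characteristic `p`
-/

set_option autoImplicit false
set_option backward.isDefEq.respectTransparency false
universe u v

namespace Groth.Agent.FrobAlgLib

open Finset

variable {k : Type u} [CommRing k] {A : Type v} [CommRing A] [Algebra k A] {n : ℕ}

/-- The commutator of two derivations. -/
def bracket (D E : Derivation k A A) : Derivation k A A :=
  Derivation.mk' (D.toLinearMap ∘ₗ E.toLinearMap - E.toLinearMap ∘ₗ D.toLinearMap) fun a b => by
    simp [D.leibniz, E.leibniz, smul_eq_mul]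
    ring

theorem bracket_apply (D E : Derivation k A A) (a : A) : bracket D E a = D (E a) - E (D a) := rfl

theorem derivation_prod {ι : Type*} [DecidableEq ι] (D : Derivation k A A) (s : Finset ι) (g : ι → A) :
    D (∏ i ∈ s, g i) = ∑ i ∈ s, D (g i) * ∏ j ∈ s.erase i, g j := by
  induction s using Finset.induction with
  | empty => simp
  | @insert a s ha ih =>
    rw [prod_insert ha, D.leibniz, ih, sum_insert ha, erase_insert ha, smul_eq_mul, smul_eq_mul, mul_sum]
    rw [add_comm]
    congr 1
    · ring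
    · refine sum_congr rfl fun i hi => ?_
      rw [erase_insert_of_ne (fun h => ha (by rw [h]; exact hi)), prod_insert fun h => ha (mem_of_mem_erase h)]
      ring

theorem iterate_leibniz (D : Derivation k A A) (a b : A) (m : ℕ) :
    (⇑D)^[m] (a * b) = ∑ i ∈ range (m + 1), (m.choose i : A) * ((⇑D)^[i] a * (⇑D)^[m - i] b) := by
  induction m with
  | zero => simp
  | succ m ih =>
    rw [Function.iterate_succ_apply', ih, map_sum,
      Finset.sum_choose_succ_mul (fun i j => (⇑D)^[i] a * (⇑D)^[j] b), ← Finset.sum_add_distrib]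
    refine sum_congr rfl fun i hi => ?_
    have hi' : i ≤ m := Nat.lt_succ_iff.1 (mem_range.1 hi)
    rw [show m + 1 - i = m - i + 1 by omega, D.leibniz, Derivation.map_natCast, smul_zero, add_zero, D.leibniz,
      Function.iterate_succ_apply', Function.iterate_succ_apply']
    simp only [smul_eq_mul]
    ring

/-- The `p`-th iterate of a derivation. -/
def iterPow (p : ℕ) [Fact p.Prime] [CharP A p] (D : Derivation k A A) : Derivation k A A :=
  Derivation.mk' (D.toLinearMap ^ p) fun a b => by
    have hp := (Fact.out : p.Prime)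
    rw [Module.End.coe_pow]
    change (⇑D)^[p] (a * b) = a • (⇑D)^[p] b + b • (⇑D)^[p] a
    rw [iterate_leibniz, Finset.sum_range_succ, ← Finset.sum_erase_add _ _ (mem_range.2 hp.pos)]
    rw [Finset.sum_eq_zero fun i hi => by
      simp only [mem_erase, mem_range] at hi
      rw [(CharP.cast_eq_zero_iff A p _).2 (hp.dvd_choose_self hi.1 hi.2), zero_mul]]
    simp [smul_eq_mul]
    ring

theorem iterPow_apply (p : ℕ) [Fact p.Prime] [CharP A p] (D : Derivation k A A) (a : A) :
    iterPow p D a = (D.toLinearMap ^ p) a := rfl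

variable (Dv : Fin n → Derivation k A A)

/-- The divergences. -/
def divs : AddSubgroup A := ⨆ j, (Dv j).toLinearMap.toAddMonoidHom.range

theorem mem_divs (j : Fin n) (a : A) : Dv j a ∈ divs Dv :=
  AddSubgroup.mem_iSup_of_mem j ⟨a, rfl⟩

variable (hcomm : ∀ i j a, Dv i (Dv j a) = Dv j (Dv i a))

include hcomm in
/-- A Jacobian minor times a constant of the corresponding derivations is a divergence. -/
theorem term_mem_divs (f : Fin n → A) (d : Fin n → A) (hd : ∀ i j, i ≠ j → Dv j (d i) = 0) (S : Finset (Fin n))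
    (hS : S.Nonempty) :
    ∑ σ : Equiv.Perm (Fin n), (Equiv.Perm.sign σ : ℤ) •
      ((∏ i ∈ S, Dv (σ i) (f i)) * ∏ i ∈ Sᶜ, (if i = σ i then d i else 0)) ∈ divs Dv := by
  classical
  obtain ⟨i₀, hi₀⟩ := hS
  let c : Equiv.Perm (Fin n) → A := fun σ => ∏ i ∈ Sᶜ, (if i = σ i then d i else 0)
  let T : Equiv.Perm (Fin n) → Fin n → A := fun σ i =>
    Dv (σ i₀) (Dv (σ i) (f i)) * ((∏ j ∈ (S.erase i₀).erase i, Dv (σ j) (f j)) * c σ)
  have hc : ∀ σ, Dv (σ i₀) (c σ) = 0 := by
    intro σ
    by_cases h : ∀ i ∈ Sᶜ, i = σ i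
    · rw [show c σ = ∏ i ∈ Sᶜ, d i from prod_congr rfl fun i hi => if_pos (h i hi), derivation_prod]
      refine sum_eq_zero fun i hi => ?_
      rw [hd i _ (fun e => mem_compl.1 hi (by
        have : i₀ = i := σ.injective (e.symm.trans (h i hi))
        rw [← this]; exact hi₀)), zero_mul]
    · push Not at h
      obtain ⟨i, hi, hne⟩ := h
      rw [show c σ = 0 from prod_eq_zero hi (if_neg hne), map_zero]
  have hsplit : ∀ σ : Equiv.Perm (Fin n), (∏ i ∈ S, Dv (σ i) (f i)) * c σ =
      Dv (σ i₀) (f i₀ * ((∏ i ∈ S.erase i₀, Dv (σ i) (f i)) * c σ)) - f i₀ * ∑ i ∈ S.erase i₀, T σ i := by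
    intro σ
    rw [← mul_prod_erase _ _ hi₀, (Dv (σ i₀)).leibniz, (Dv (σ i₀)).leibniz (∏ i ∈ S.erase i₀, Dv (σ i) (f i)), hc σ,
      derivation_prod]
    simp only [smul_eq_mul, mul_zero, zero_add, T]
    have : c σ * ∑ i ∈ S.erase i₀, Dv (σ i₀) (Dv (σ i) (f i)) * ∏ j ∈ (S.erase i₀).erase i, Dv (σ j) (f j) =
        ∑ i ∈ S.erase i₀, Dv (σ i₀) (Dv (σ i) (f i)) * ((∏ j ∈ (S.erase i₀).erase i, Dv (σ j) (f j)) * c σ) := by
      rw [mul_sum]
      exact sum_congr rfl fun i _ => by ring
    rw [this]
    ring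
  simp only [show ∀ σ : Equiv.Perm (Fin n), (∏ i ∈ Sᶜ, (if i = σ i then d i else 0)) = c σ from fun _ => rfl,
    hsplit, smul_sub, sum_sub_distrib]
  refine sub_mem (sum_mem fun σ _ => (divs Dv).zsmul_mem (mem_divs Dv _ _) _) ?_
  have hzero : ∀ i ∈ S.erase i₀, ∑ σ : Equiv.Perm (Fin n), (Equiv.Perm.sign σ : ℤ) • (f i₀ * T σ i) = 0 := by
    intro i hi
    have hne : i₀ ≠ i := (mem_erase.1 hi).1.symm
    have hT : ∀ σ : Equiv.Perm (Fin n), T (σ * Equiv.swap i₀ i) i = T σ i := by
      intro σ
      simp only [T, c, Equiv.Perm.mul_apply, Equiv.swap_apply_left, Equiv.swap_apply_right]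
      congr 1
      · exact hcomm _ _ _
      · congr 1
        · refine prod_congr rfl fun j hj => ?_
          simp only [mem_erase] at hj
          rw [Equiv.swap_apply_of_ne_of_ne hj.2.1 hj.1]
        · refine prod_congr rfl fun j hj => ?_
          have hjS := mem_compl.1 hj
          have : Equiv.swap i₀ i j = j := Equiv.swap_apply_of_ne_of_ne (fun h => hjS (by rw [h]; exact hi₀))
            (fun h => hjS (by rw [h]; exact (mem_erase.1 hi).2))
          refine if_congr ?_ rfl rfl
          rw [this]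
    refine Finset.sum_involution (fun σ _ => σ * Equiv.swap i₀ i) (fun σ _ => ?_) (fun σ _ _ h => hne ?_)
      (fun σ _ => mem_univ _) (fun σ _ => by simp [mul_assoc])
    · rw [hT σ, map_mul, Equiv.Perm.sign_swap hne, mul_neg_one, Units.val_neg, neg_smul, add_neg_cancel]
    · rw [mul_eq_left, Equiv.swap_eq_one_iff] at h
      exact h
  simp only [mul_sum, smul_sum]
  rw [Finset.sum_comm, sum_eq_zero hzero]
  exact zero_mem _

include hcomm in
/-- A diagonal matrix plus a Jacobian has the same determinant as the diagonal matrix modulo divergences. -/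
theorem det_sub_mem_divs (f : Fin n → A) (d : Fin n → A) (hd : ∀ i j, i ≠ j → Dv j (d i) = 0) :
    (Matrix.of fun i j => (if i = j then d i else 0) + Dv j (f i)).det - ∏ i, d i ∈ divs Dv := by
  classical
  have hexp : (Matrix.of fun i j => (if i = j then d i else 0) + Dv j (f i)).det =
      ∑ S ∈ (univ : Finset (Fin n)).powerset, ∑ σ : Equiv.Perm (Fin n), (Equiv.Perm.sign σ : ℤ) •
        ((∏ i ∈ S, Dv (σ i) (f i)) * ∏ i ∈ Sᶜ, (if i = σ i then d i else 0)) := by
    rw [Finset.sum_comm, ← Matrix.det_transpose, Matrix.det_apply]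
    refine sum_congr rfl fun σ _ => ?_
    rw [← smul_sum, Units.smul_def]
    congr 1
    simp only [Matrix.transpose_apply, Matrix.of_apply, compl_eq_univ_sdiff]
    rw [← Finset.prod_add]
    exact prod_congr rfl fun i _ => add_comm _ _
  have hempty : ∑ σ : Equiv.Perm (Fin n), (Equiv.Perm.sign σ : ℤ) •
      ((∏ i ∈ (∅ : Finset (Fin n)), Dv (σ i) (f i)) * ∏ i ∈ (∅ : Finset (Fin n))ᶜ, (if i = σ i then d i else 0)) =
      ∏ i, d i := by
    rw [Finset.sum_eq_single 1]
    · simp
    · intro σ _ hσ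
      obtain ⟨i, hi⟩ : ∃ i, σ i ≠ i := by
        by_contra h
        push Not at h
        exact hσ (Equiv.ext h)
      rw [prod_eq_zero (s := (∅ : Finset (Fin n))ᶜ) (i := i) (by simp) (if_neg (Ne.symm hi))]
      simp
    · simp
  rw [hexp, ← Finset.sum_erase_add _ _ (empty_mem_powerset _), hempty, add_sub_cancel_right]
  exact sum_mem fun S hS => term_mem_divs Dv hcomm f d hd S (nonempty_iff_ne_empty.2 (mem_erase.1 hS).1)

theorem iterate_apply_mul_pow {j : Fin n} {c t : A} (hc : Dv j c = 0) (ht : Dv j t = 1) (q m : ℕ) :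
    ((Dv j).toLinearMap ^ m) (c * t ^ q) = c * ((q.descFactorial m : ℕ) : A) * t ^ (q - m) := by
  induction m with
  | zero => simp
  | succ m ih =>
    rw [pow_succ', Module.End.mul_apply, ih, Derivation.coeFn_coe, Derivation.leibniz, Derivation.leibniz, hc,
      Derivation.map_natCast, Derivation.leibniz_pow, ht, Nat.descFactorial_succ, Nat.sub_sub]
    simp only [smul_eq_mul, nsmul_eq_mul, Nat.cast_mul, smul_zero, mul_zero, add_zero, mul_one]
    ring

include hcomm in
/-- The determinant of `diag(t_i^(p-1))` plus a Jacobian does not vanish. -/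
theorem det_ne_zero (p : ℕ) [Fact p.Prime] [CharP A p] (t : Fin n → A)
    (ht : ∀ i j, Dv i (t j) = if i = j then 1 else 0) (hp : ∀ j a, ((Dv j).toLinearMap ^ p) a = 0) (f : Fin n → A) :
    (Matrix.of fun i j => (if i = j then t i ^ (p - 1) else 0) + Dv j (f i)).det ≠ 0 := by
  classical
  have hpp := (Fact.out : p.Prime)
  haveI := CharP.nontrivial_of_char_ne_one (R := A) hpp.ne_one
  let ops : Set (Module.End k A) := Set.range fun j => (Dv j).toLinearMap
  have hc : ∀ a ∈ ops, ∀ b ∈ ops, a * b = b * a := by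
    rintro _ ⟨i, rfl⟩ _ ⟨j, rfl⟩
    exact LinearMap.ext (hcomm i j)
  letI := Algebra.adjoinCommRingOfComm k hc
  let e : Fin n → Algebra.adjoin k ops := fun j => ⟨(Dv j).toLinearMap, Algebra.subset_adjoin ⟨j, rfl⟩⟩
  let D : Finset (Fin n) → Module.End k A := fun S => ((∏ j ∈ S, e j ^ (p - 1) : Algebra.adjoin k ops) : Module.End k A)
  have hDinsert : ∀ j S, j ∉ S → D (insert j S) = (Dv j).toLinearMap ^ (p - 1) * D S := fun j S h => by
    simp only [D, prod_insert h]
    rfl
  have hDkill : ∀ a ∈ divs Dv, D univ a = 0 := by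
    intro a ha
    induction ha using AddSubgroup.iSup_induction' with
    | hp j x hx =>
      obtain ⟨y, rfl⟩ := hx
      have h : D univ * (Dv j).toLinearMap = D (univ.erase j) * (Dv j).toLinearMap ^ p := by
        have h' : (∏ i, e i ^ (p - 1)) * e j = (∏ i ∈ univ.erase j, e i ^ (p - 1)) * e j ^ p := by
          rw [← prod_erase_mul _ _ (mem_univ j), mul_assoc, ← pow_succ, Nat.sub_add_cancel hpp.one_le]
        exact congrArg Subtype.val h'
      have := LinearMap.congr_fun h y
      simpa [Module.End.mul_apply, hp] using this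
    | h1 => exact map_zero _
    | hadd x y _ _ hx hy => rw [map_add, hx, hy, add_zero]
  have hD : ∀ S, D S (∏ i, t i ^ (p - 1)) =
      ((p - 1).factorial : A) ^ S.card * ∏ i ∈ Sᶜ, t i ^ (p - 1) := by
    intro S
    induction S using Finset.induction with
    | empty => simp [D]
    | @insert j S hj ih =>
      rw [hDinsert j S hj, Module.End.mul_apply, ih, card_insert_of_notMem hj,
        ← prod_erase_mul _ _ (mem_compl.2 hj), ← mul_assoc, iterate_apply_mul_pow Dv ?_ (by rw [ht, if_pos rfl]),
        Nat.sub_self, pow_zero, mul_one, compl_insert, Nat.descFactorial_self]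
      · ring
      · rw [Derivation.leibniz, derivation_prod, ← Nat.cast_pow, Derivation.map_natCast, smul_zero, add_zero,
          sum_eq_zero fun i hi => ?_, smul_zero]
        rw [Derivation.leibniz_pow, ht, if_neg (mem_erase.1 hi).1.symm, smul_zero, smul_zero, zero_mul]
  have hd : ∀ i j, i ≠ j → Dv j (t i ^ (p - 1)) = 0 := fun i j h => by
    rw [Derivation.leibniz_pow, ht, if_neg h.symm, smul_zero, smul_zero]
  intro h0
  have hmem := det_sub_mem_divs Dv hcomm f (fun i => t i ^ (p - 1)) hd
  rw [h0, zero_sub, neg_mem_iff] at hmem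
  have h1 := hDkill _ hmem
  rw [hD, compl_univ, prod_empty, mul_one, card_univ] at h1
  have hunit : IsUnit (((p - 1).factorial : A)) := by
    have h2 : IsUnit (((p - 1).factorial : ZMod p)) := by
      rw [ZMod.wilsons_lemma]
      exact isUnit_one.neg
    have h3 := h2.map (ZMod.castHom (dvd_refl p) A)
    rwa [map_natCast] at h3
  exact (hunit.pow _).ne_zero h1

end Groth.Agent.FrobAlgLib
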