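import Groth.Agent.FrobAlgLib.Basic

/-!
The relative Frobenius of a smooth algebra is flat.
-/

set_option autoImplicit false
set_option backward.isDefEq.respectTransparency false
set_option backward.isDefEq.respectTransparency.types false

open TensorProduct CategoryTheory

universe u

namespace Groth.Agent.FrobAlgLib

theorem flat_of_bijective {R S : Type*} [CommRing R] [CommRing S] (f : R →+* S) {ι : Type*} (b : ι → S)
    (h : Function.Bijective fun c : ι →₀ R => c.sum fun i r => f r * b i) : f.Flat := by
  algebraize [f]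
  refine Module.Flat.of_linearEquiv (LinearEquiv.ofBijective (Finsupp.linearCombination R b) ?_).symm
  convert h using 1
  funext c
  simp only [Finsupp.linearCombination_apply, Algebra.smul_def]
  rfl

variable (p : ℕ) [Fact p.Prime]

section Expand

variable (A : Type u) [CommRing A] (n : ℕ)

open MvPolynomial

/-- The remainder exponent. -/
noncomputable def remExp (r : Fin n → Fin p) : Fin n →₀ ℕ := Finsupp.equivFunOnFinite.symm fun i => (r i : ℕ)

/-- The remainder of an exponent. -/
def modExp (d : Fin n →₀ ℕ) : Fin n → Fin p :=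
  fun i => ⟨d i % p, Nat.mod_lt _ (Fact.out : p.Prime).pos⟩

/-- The quotient of an exponent. -/
noncomputable def divExp (d : Fin n →₀ ℕ) : Fin n →₀ ℕ := d.mapRange (· / p) (Nat.zero_div p)

theorem smul_divExp_add (d : Fin n →₀ ℕ) : p • divExp p n d + remExp p n (modExp p n d) = d := by
  ext i
  simp [divExp, remExp, modExp, Nat.div_add_mod]

theorem modExp_smul_add (q : Fin n →₀ ℕ) (r : Fin n → Fin p) : modExp p n (p • q + remExp p n r) = r := by
  funext i
  refine Fin.ext ?_
  simp [modExp, remExp, Nat.mod_eq_of_lt (r i).2]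

theorem divExp_smul_add (q : Fin n →₀ ℕ) (r : Fin n → Fin p) : divExp p n (p • q + remExp p n r) = q := by
  ext i
  simp [divExp, remExp, Nat.mul_add_div (Fact.out : p.Prime).pos, Nat.div_eq_of_lt (r i).2]

theorem bijective_expand_sum :
    Function.Bijective fun c : (Fin n → Fin p) →₀ MvPolynomial (Fin n) A => c.sum fun r f =>
      (expand p : MvPolynomial (Fin n) A →ₐ[A] MvPolynomial (Fin n) A).toRingHom f * monomial (remExp p n r) (1 : A) := by
  classical
  let Φ : ((Fin n → Fin p) →₀ MvPolynomial (Fin n) A) →+ MvPolynomial (Fin n) A :=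
    Finsupp.liftAddHom fun r =>
      (AddMonoidHom.mulRight (monomial (remExp p n r) (1 : A))).comp
        (expand p : MvPolynomial (Fin n) A →ₐ[A] MvPolynomial (Fin n) A).toRingHom.toAddMonoidHom
  let Ψ : MvPolynomial (Fin n) A →ₗ[A] ((Fin n → Fin p) →₀ MvPolynomial (Fin n) A) :=
    (basisMonomials (Fin n) A).constr A fun d => Finsupp.single (modExp p n d) (monomial (divExp p n d) (1 : A))
  have hΨ : ∀ d a, Ψ (monomial d a) = Finsupp.single (modExp p n d) (monomial (divExp p n d) a) := fun d a => by
    have h1 : monomial d a = a • (basisMonomials (Fin n) A) d := by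
      rw [coe_basisMonomials, MvPolynomial.smul_monomial, smul_eq_mul, mul_one]
    rw [h1, map_smul, show Ψ ((basisMonomials (Fin n) A) d) = _ from Module.Basis.constr_basis _ _ _ _,
      Finsupp.smul_single, MvPolynomial.smul_monomial, smul_eq_mul, mul_one]
  have hΦ : ∀ r d a, Φ (Finsupp.single r (monomial d a)) = monomial (p • d + remExp p n r) a := fun r d a => by
    simp [Φ, expand_monomial, monomial_mul]
  have h1 : ∀ f, Φ (Ψ f) = f := fun f => by
    induction f using MvPolynomial.induction_on' with
    | monomial d a => rw [hΨ, hΦ, smul_divExp_add]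
    | add f g hf hg => rw [map_add, map_add, hf, hg]
  have h2 : ∀ c, Ψ (Φ c) = c := fun c => by
    induction c using Finsupp.induction_linear with
    | zero => rw [map_zero, map_zero]
    | add f g hf hg => rw [map_add, map_add, hf, hg]
    | single r f =>
      induction f using MvPolynomial.induction_on' with
      | monomial d a => rw [hΦ, hΨ, modExp_smul_add, divExp_smul_add]
      | add f g hf hg => rw [Finsupp.single_add, map_add, map_add, hf, hg]
  exact ⟨fun a b e => by rw [← h2 a, ← h2 b]; exact congrArg Ψ e, fun f => ⟨Ψ f, h1 f⟩⟩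

theorem flat_expand :
    (expand p : MvPolynomial (Fin n) A →ₐ[A] MvPolynomial (Fin n) A).toRingHom.Flat :=
  flat_of_bijective _ _ (bijective_expand_sum p A n)

end Expand

section Square

variable (A : Type u) [CommRing A] [CharP A p]

/-- The structure map, bundled. -/
abbrev alg (B : Type u) [CommRing B] [Algebra A B] : CommRingCat.of A ⟶ CommRingCat.of B :=
  CommRingCat.ofHom (algebraMap A B)

/-- The Frobenius, bundled. -/
abbrev frobC : CommRingCat.of A ⟶ CommRingCat.of A := CommRingCat.ofHom (frobenius A p)

variable (B : Type u) [CommRing B] [Algebra A B]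

/-- The left coprojection of the twist. -/
noncomputable abbrev jL : CommRingCat.of B ⟶ CommRingCat.of (FrobAlg.BaseChange p A B) :=
  CommRingCat.ofHom (Algebra.TensorProduct.includeLeftRingHom : B →+* FrobAlg.BaseChange p A B)

/-- The right coprojection of the twist. -/
noncomputable abbrev jR : CommRingCat.of A ⟶ CommRingCat.of (FrobAlg.BaseChange p A B) :=
  CommRingCat.ofHom ((Algebra.TensorProduct.includeRight : FrobAlg.Twist p A →ₐ[A] FrobAlg.BaseChange p A B).toRingHom.comp
    (FrobAlg.toTwist p A).toRingHom)

theorem isPushout_twist : IsPushout (alg A B) (frobC p A) (jL p A B) (jR p A B) :=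
  CommRingCat.isPushout_tensorProduct A B (FrobAlg.Twist p A)

variable [CharP B p]

/-- The relative Frobenius, bundled. -/
noncomputable abbrev relC : CommRingCat.of (FrobAlg.BaseChange p A B) ⟶ CommRingCat.of B :=
  CommRingCat.ofHom (FrobAlg.relFrob p A B)

theorem jL_relC : jL p A B ≫ relC p A B = frobC p B :=
  CommRingCat.hom_ext (RingHom.ext fun b => relFrob_left p A B b)

theorem jR_relC : jR p A B ≫ relC p A B = alg A B :=
  CommRingCat.hom_ext (RingHom.ext fun a => relFrob_right p A B a)

variable (P : Type u) [CommRing P] [Algebra A P] [Algebra P B] [IsScalarTower A P B] [CharP P p]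

omit [CharP B p] [CharP P p] in
theorem alg_comp : alg A P ≫ alg P B = alg A B :=
  CommRingCat.hom_ext (IsScalarTower.algebraMap_eq A P B).symm

/-- The map of twists. -/
noncomputable def twistMap : CommRingCat.of (FrobAlg.BaseChange p A P) ⟶ CommRingCat.of (FrobAlg.BaseChange p A B) :=
  (isPushout_twist p A P).desc (alg P B ≫ jL p A B) (jR p A B)
    (by rw [← Category.assoc, alg_comp, (isPushout_twist p A B).w])

omit [CharP B p] [CharP P p] in
theorem jR_twistMap : jR p A P ≫ twistMap p A B P = jR p A B := IsPushout.inr_desc _ _ _ _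

omit [CharP B p] [CharP P p] in
theorem jL_twistMap : jL p A P ≫ twistMap p A B P = alg P B ≫ jL p A B := IsPushout.inl_desc _ _ _ _

omit [CharP B p] [CharP P p] in
theorem isPushout_twistMap : IsPushout (alg P B) (jL p A P) (jL p A B) (twistMap p A B P) :=
  IsPushout.of_left (h₁₁ := alg A P) (v₁₁ := frobC p A) (h₂₁ := jR p A P)
    (by rw [alg_comp, jR_twistMap]; exact isPushout_twist p A B)
    (jL_twistMap p A B P).symm (isPushout_twist p A P)

theorem twistMap_relC : twistMap p A B P ≫ relC p A B = relC p A P ≫ alg P B := by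
  refine (isPushout_twist p A P).hom_ext ?_ ?_
  · rw [← Category.assoc, jL_twistMap, Category.assoc, jL_relC, ← Category.assoc, jL_relC]
    exact CommRingCat.hom_ext (RingHom.ext fun x => (map_pow (algebraMap P B) x p).symm)
  · rw [← Category.assoc, jR_twistMap, jR_relC, ← Category.assoc, jR_relC, alg_comp]

theorem isPushout_etale [Algebra.Etale P B] : IsPushout (alg P B) (frobC p P) (frobC p B) (alg P B) := by
  let e := (RingEquiv.ofBijective _ (bijective_of_etale p P B)).toCommRingCatIso
  exact (isPushout_twist p P B).of_iso (Iso.refl _) (Iso.refl _) (Iso.refl _) e (by simp) (by simp)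
    ((congrArg (jL p P B ≫ ·) (show e.hom = relC p P B from rfl)).trans
      ((jL_relC p P B).trans (Category.id_comp _).symm))
    ((congrArg (jR p P B ≫ ·) (show e.hom = relC p P B from rfl)).trans
      ((jR_relC p P B).trans (Category.id_comp _).symm))

theorem isPushout_relC [Algebra.Etale P B] : IsPushout (twistMap p A B P) (relC p A P) (relC p A B) (alg P B) :=
  IsPushout.of_top (h₁₁ := alg P B) (v₁₁ := jL p A P) (v₁₂ := jL p A B)
    (by rw [jL_relC, jL_relC]; exact isPushout_etale p B P)
    (twistMap_relC p A B P) (isPushout_twistMap p A B P)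

theorem flat_of_isPushout {R R' S S' : CommRingCat.{u}} {f : R ⟶ R'} {g : R ⟶ S} {f' : S ⟶ S'} {g' : R' ⟶ S'}
    (sq : IsPushout g f f' g') (hf : f.hom.Flat) : f'.hom.Flat := by
  haveI : (RingHom.toMorphismProperty RingHom.Flat).IsStableUnderCobaseChange :=
    RingHom.isStableUnderCobaseChange_toMorphismProperty_iff.2 RingHom.Flat.isStableUnderBaseChange
  exact MorphismProperty.of_isPushout (P := RingHom.toMorphismProperty RingHom.Flat) sq hf

end Square

section MvPoly

variable (A : Type u) [CommRing A] [CharP A p] (n : ℕ)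

open MvPolynomial

/-- The twist of a polynomial algebra is the polynomial algebra. -/
theorem exists_twistEquiv :
    ∃ θ : FrobAlg.BaseChange p A (MvPolynomial (Fin n) A) ≃+* MvPolynomial (Fin n) A,
      (expand p : MvPolynomial (Fin n) A →ₐ[A] MvPolynomial (Fin n) A).toRingHom.comp θ.toRingHom =
        FrobAlg.relFrob p A (MvPolynomial (Fin n) A) := by
  let P := MvPolynomial (Fin n) A
  let sq := isPushout_twist p A P
  let θ : CommRingCat.of (FrobAlg.BaseChange p A P) ⟶ CommRingCat.of P :=
    sq.desc (CommRingCat.ofHom (MvPolynomial.map (frobenius A p))) (alg A P)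
      (CommRingCat.hom_ext (RingHom.ext fun a => by
        change MvPolynomial.map (frobenius A p) (C a) = C (frobenius A p a)
        rw [map_C]))
  have hL : ∀ x : P, θ.hom ((jL p A P).hom x) = MvPolynomial.map (frobenius A p) x := fun x =>
    congrArg (fun k => k.hom x) (sq.inl_desc (CommRingCat.ofHom (MvPolynomial.map (frobenius A p))) _ _)
  have hR : ∀ a : A, θ.hom ((jR p A P).hom a) = C a := fun a =>
    congrArg (fun k => k.hom a) (sq.inr_desc (CommRingCat.ofHom (MvPolynomial.map (frobenius A p))) _ _)
  let ξ : P →+* FrobAlg.BaseChange p A P := eval₂Hom (jR p A P).hom fun i => (jL p A P).hom (X i)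
  have h1 : ξ.comp θ.hom = RingHom.id _ := by
    refine congrArg CommRingCat.Hom.hom (show CommRingCat.ofHom (ξ.comp θ.hom) = 𝟙 _ from ?_)
    refine sq.hom_ext (CommRingCat.hom_ext (MvPolynomial.ringHom_ext (fun a => ?_) fun i => ?_))
      (CommRingCat.hom_ext (RingHom.ext fun a => ?_))
    · change ξ (θ.hom ((jL p A P).hom (C a))) = (jL p A P).hom (C a)
      rw [hL, map_C, eval₂Hom_C]
      exact congrArg (fun k => k.hom a) sq.w.symm
    · change ξ (θ.hom ((jL p A P).hom (X i))) = (jL p A P).hom (X i)
      rw [hL, map_X, eval₂Hom_X']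
    · change ξ (θ.hom ((jR p A P).hom a)) = (jR p A P).hom a
      rw [hR, eval₂Hom_C]
  have h2 : θ.hom.comp ξ = RingHom.id _ := by
    refine MvPolynomial.ringHom_ext (fun a => ?_) fun i => ?_
    · rw [RingHom.comp_apply, eval₂Hom_C, hR, RingHom.id_apply]
    · rw [RingHom.comp_apply, eval₂Hom_X', hL, map_X, RingHom.id_apply]
  have h3 : (expand p : P →ₐ[A] P).toRingHom.comp θ.hom = FrobAlg.relFrob p A P := by
    refine congrArg CommRingCat.Hom.hom
      (show CommRingCat.ofHom ((expand p : P →ₐ[A] P).toRingHom.comp θ.hom) = relC p A P from ?_)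
    refine sq.hom_ext (CommRingCat.hom_ext (RingHom.ext fun x => ?_)) (CommRingCat.hom_ext (RingHom.ext fun a => ?_))
    · change expand p (θ.hom ((jL p A P).hom x)) = FrobAlg.relFrob p A P ((jL p A P).hom x)
      rw [hL]
      refine Eq.trans ?_ (relFrob_left p A P x).symm
      induction x using MvPolynomial.induction_on with
      | C a => rw [map_C, expand_C, ← map_pow, frobenius_def]
      | add f g hf hg => rw [map_add, map_add, hf, hg, add_pow_char]
      | mul_X f i hf => rw [map_mul, map_mul, hf, map_X, expand_X, mul_pow]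
    · change expand p (θ.hom ((jR p A P).hom a)) = FrobAlg.relFrob p A P ((jR p A P).hom a)
      rw [hR, expand_C]
      exact (relFrob_right p A P a).symm
  exact ⟨RingEquiv.ofRingHom θ.hom ξ h2 h1, h3⟩

theorem flat_relFrob_mvPolynomial : (FrobAlg.relFrob p A (MvPolynomial (Fin n) A)).Flat := by
  obtain ⟨θ, hθ⟩ := exists_twistEquiv p A n
  rw [← hθ]
  exact (RingHom.Flat.of_bijective (f := θ.toRingHom) θ.bijective).comp (flat_expand p A n)

end MvPoly

theorem flat_relFrob (A : Type u) [CommRing A] [CharP A p] (B : Type u) [CommRing B] [Algebra A B] [CharP B p]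
    [Algebra.Smooth A B] : (FrobAlg.relFrob p A B).Flat := by
  obtain ⟨s, hs, h⟩ := Algebra.Smooth.exists_span_eq_top_isStandardSmooth A B
  refine RingHom.Flat.ofLocalizationSpanTarget _ s hs fun r => ?_
  let C := Localization.Away (r : B)
  rcases subsingleton_or_nontrivial C with hC | hC
  · letI := ((algebraMap B C).comp (FrobAlg.relFrob p A B)).toAlgebra
    show Module.Flat (FrobAlg.BaseChange p A B) C
    infer_instance
  haveI : CharP C p := (CharP.charP_iff_prime_eq_zero Fact.out).2 (natCast_eq_zero p A C)
  haveI := h r r.2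
  obtain ⟨n, g, hg, hget⟩ := RingHom.IsStandardSmooth.exists_etale_mvPolynomial
    (RingHom.isStandardSmooth_algebraMap.2 (h r r.2))
  let P := MvPolynomial (Fin n) A
  letI : Algebra P C := g.toAlgebra
  haveI : IsScalarTower A P C := IsScalarTower.of_algebraMap_eq' hg.symm
  haveI : Algebra.Etale P C := hget
  haveI : CharP P p := inferInstance
  have h1 : (relC p A C).hom.Flat :=
    flat_of_isPushout (isPushout_relC p A C P) (flat_relFrob_mvPolynomial p A n)
  have h2 : (twistMap p A C B).hom.Flat :=
    flat_of_isPushout (isPushout_twistMap p A C B).flip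
      (RingHom.flat_algebraMap_iff.2 (IsLocalization.flat _ (Submonoid.powers (r : B))))
  rw [show (algebraMap B C).comp (FrobAlg.relFrob p A B) = (relC p A C).hom.comp (twistMap p A C B).hom from
    congrArg CommRingCat.Hom.hom (twistMap_relC p A C B).symm]
  exact h2.comp h1

end Groth.Agent.FrobAlgLib
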