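import Mathlib
import Groth.Prelude.Def_FrobAlg

/-!
# The perfection of a ring with projective Frobenius
-/

set_option autoImplicit false
set_option backward.isDefEq.respectTransparency false
universe u v

namespace Groth.Agent.FrobAlgLib

open TensorProduct

variable (p : ℕ) [Fact p.Prime] (R : Type u) [CommRing R] [CharP R p]

set_option linter.unusedVariables false in
/-- A copy of `R`, an `R`-algebra through the `i`-th iterate of Frobenius. -/
@[nolint unusedArguments] def Fr (p : ℕ) (R : Type u) (i : ℕ) : Type u := R

instance (i : ℕ) : CommRing (Fr p R i) := inferInstanceAs (CommRing R)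

/-- The identity `R → Fr i`. -/
def toFr (i : ℕ) : R ≃+* Fr p R i := RingEquiv.refl R

noncomputable instance frAlgebra (i : ℕ) : Algebra R (Fr p R i) :=
  ((toFr p R i : R →+* Fr p R i).comp (iterateFrobenius R p i)).toAlgebra

theorem smul_toFr (i : ℕ) (a r : R) : a • toFr p R i r = toFr p R i ((frobenius R p)^[i] a * r) := by
  rw [Algebra.smul_def]
  show toFr p R i (iterateFrobenius R p i a) * toFr p R i r = _
  rw [← map_mul, coe_iterateFrobenius R p i]

theorem projective_fr [Module.Projective R (FrobAlg.Twist p R)] : ∀ i, Module.Projective R (Fr p R i)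
  | 0 => by
    refine Module.Projective.of_equiv' (R := R) (M := R)
      ({ (toFr p R 0).toAddEquiv with
        map_smul' := fun a r => ?_ } : R ≃ₗ[R] Fr p R 0)
    show toFr p R 0 (a • r) = a • toFr p R 0 r
    rw [smul_toFr]
    rfl
  | i + 1 => by
    haveI := projective_fr i
    letI : Module (FrobAlg.Twist p R) (Fr p R (i + 1)) :=
      Module.compHom _ ((toFr p R (i + 1) : R →+* Fr p R (i + 1)).comp
        ((iterateFrobenius R p i).comp ((FrobAlg.toTwist p R).symm : FrobAlg.Twist p R →+* R)))
    haveI : IsScalarTower R (FrobAlg.Twist p R) (Fr p R (i + 1)) := IsScalarTower.of_algebraMap_smul fun a x => by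
      show toFr p R (i + 1) (iterateFrobenius R p i (a ^ p)) * x = a • x
      obtain ⟨r, rfl⟩ := (toFr p R (i + 1)).surjective x
      rw [← map_mul, smul_toFr, coe_iterateFrobenius, Function.iterate_succ_apply, frobenius_def]
    haveI : Module.Projective (FrobAlg.Twist p R) (Fr p R (i + 1)) := by
      let σ : R →+* FrobAlg.Twist p R := (FrobAlg.toTwist p R : R →+* FrobAlg.Twist p R)
      haveI := RingHomInvPair.of_ringEquiv (FrobAlg.toTwist p R)
      haveI := RingHomInvPair.symm σ ((FrobAlg.toTwist p R).symm : FrobAlg.Twist p R →+* R)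
      refine Module.Projective.of_equiv (σ := σ) (σ' := ((FrobAlg.toTwist p R).symm : FrobAlg.Twist p R →+* R))
        (M := Fr p R i) (N := Fr p R (i + 1))
        { ((toFr p R i).symm.trans (toFr p R (i + 1))).toAddEquiv with
          map_smul' := fun a x => ?_ }
      obtain ⟨r, rfl⟩ := (toFr p R i).surjective x
      show (toFr p R (i + 1)) ((toFr p R i).symm (a • toFr p R i r)) =
        toFr p R (i + 1) (iterateFrobenius R p i a) * toFr p R (i + 1) ((toFr p R i).symm (toFr p R i r))
      rw [smul_toFr, RingEquiv.symm_apply_apply, RingEquiv.symm_apply_apply, ← map_mul, coe_iterateFrobenius]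
    obtain ⟨s, hs⟩ := Module.Projective.out (R := FrobAlg.Twist p R) (P := Fr p R (i + 1))
    haveI : Module.Projective R (Fr p R (i + 1) →₀ FrobAlg.Twist p R) := by
      classical
      exact Module.Projective.of_equiv' (finsuppLequivDFinsupp R).symm
    exact Module.Projective.of_split (s.restrictScalars R)
      ((Finsupp.linearCombination (FrobAlg.Twist p R) id).restrictScalars R) (LinearMap.ext hs)

/-- The perfection as an `R`-algebra. -/
noncomputable abbrev closureAlgebra : Algebra R (PerfectClosure R p) := (PerfectClosure.of R p).toAlgebra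

attribute [local instance] closureAlgebra

theorem smul_mk (a : R) (i : ℕ) (r : R) :
    a • PerfectClosure.mk R p (i, r) = PerfectClosure.mk R p (i, (frobenius R p)^[i] a * r) := by
  rw [Algebra.smul_def]
  show PerfectClosure.mk R p (0, a) * _ = _
  rw [PerfectClosure.mk_mul_mk]
  simp

/-- The maps into the perfection. -/
noncomputable def frToClosure (i : ℕ) : Fr p R i →ₗ[R] PerfectClosure R p where
  toFun r := PerfectClosure.mk R p (i, (toFr p R i).symm r)
  map_add' x y := by
    rw [PerfectClosure.mk_add_mk, PerfectClosure.mk_eq_iff]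
    exact ⟨0, by simp only [map_add, iterate_map_add, ← Function.iterate_add_apply, add_zero]⟩
  map_smul' a x := by
    obtain ⟨r, rfl⟩ := (toFr p R i).surjective x
    rw [smul_toFr, RingEquiv.symm_apply_apply, RingEquiv.symm_apply_apply, RingHom.id_apply, smul_mk]

/-- The transition maps. -/
noncomputable def frTrans (i j : ℕ) : Fr p R i →ₗ[R] Fr p R (i + j) where
  toFun r := toFr p R (i + j) ((frobenius R p)^[j] ((toFr p R i).symm r))
  map_add' x y := by rw [map_add, iterate_map_add, map_add]
  map_smul' a x := by
    obtain ⟨r, rfl⟩ := (toFr p R i).surjective x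
    rw [smul_toFr, RingEquiv.symm_apply_apply, RingEquiv.symm_apply_apply, RingHom.id_apply, smul_toFr,
      iterate_map_mul, ← Function.iterate_add_apply, add_comm j i]

theorem frToClosure_trans (i j : ℕ) : (frToClosure p R (i + j)).comp (frTrans p R i j) = frToClosure p R i := by
  refine LinearMap.ext fun x => ?_
  show PerfectClosure.mk R p (i + j, (toFr p R (i + j)).symm (toFr p R (i + j) _)) = PerfectClosure.mk R p (i, _)
  rw [RingEquiv.symm_apply_apply, PerfectClosure.mk_eq_iff]
  exact ⟨0, by simp only [← Function.iterate_add_apply, add_zero]⟩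

theorem exists_stage {M : Type v} [AddCommGroup M] [Module R M] (x : PerfectClosure R p ⊗[R] M) :
    ∃ (i : ℕ) (y : Fr p R i ⊗[R] M), (frToClosure p R i).rTensor M y = x := by
  induction x using TensorProduct.induction_on with
  | zero => exact ⟨0, 0, map_zero _⟩
  | tmul a b =>
    obtain ⟨⟨i, r⟩, rfl⟩ := PerfectClosure.mk_surjective R p a
    refine ⟨i, toFr p R i r ⊗ₜ b, ?_⟩
    rw [LinearMap.rTensor_tmul]
    show PerfectClosure.mk R p (i, (toFr p R i).symm (toFr p R i r)) ⊗ₜ[R] b = _
    rw [RingEquiv.symm_apply_apply]
  | add a b ha hb =>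
    obtain ⟨i, x, rfl⟩ := ha
    obtain ⟨j, y, rfl⟩ := hb
    obtain ⟨x', hx⟩ : ∃ x' : Fr p R (i + j) ⊗[R] M, (frToClosure p R (i + j)).rTensor M x' =
        (frToClosure p R i).rTensor M x :=
      ⟨(frTrans p R i j).rTensor M x, by rw [← LinearMap.rTensor_comp_apply, frToClosure_trans]⟩
    obtain ⟨y', hy⟩ : ∃ y' : Fr p R (i + j) ⊗[R] M, (frToClosure p R (i + j)).rTensor M y' =
        (frToClosure p R j).rTensor M y := by
      rw [add_comm i j]
      exact ⟨(frTrans p R j i).rTensor M y, by rw [← LinearMap.rTensor_comp_apply, frToClosure_trans]⟩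
    exact ⟨i + j, x' + y', by rw [map_add, hx, hy]⟩

theorem flat_closure [Module.Projective R (FrobAlg.Twist p R)] : Module.Flat R (PerfectClosure R p) := by
  rw [Module.Flat.iff_lTensor_injective']
  intro I
  rw [injective_iff_map_eq_zero]
  intro x hx
  obtain ⟨i, y, rfl⟩ := exists_stage p R x
  have h1 : ∀ z : Fr p R i ⊗[R] I, TensorProduct.rid R _ (LinearMap.lTensor (PerfectClosure R p) I.subtype
      ((frToClosure p R i).rTensor I z)) = frToClosure p R i (TensorProduct.rid R _ (I.subtype.lTensor _ z)) := by
    intro z
    induction z using TensorProduct.induction_on with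
    | zero => simp
    | tmul a b => simp
    | add a b ha hb => simp only [map_add, ha, hb]
  have h2 := h1 y
  rw [hx, map_zero] at h2
  obtain ⟨r, hr⟩ : ∃ r, TensorProduct.rid R _ (I.subtype.lTensor _ y) = toFr p R i r :=
    ⟨_, ((toFr p R i).apply_symm_apply _).symm⟩
  rw [hr] at h2
  change 0 = PerfectClosure.mk R p (i, (toFr p R i).symm (toFr p R i r)) at h2
  rw [RingEquiv.symm_apply_apply, PerfectClosure.zero_def, PerfectClosure.mk_eq_iff] at h2
  obtain ⟨j, hj⟩ := h2
  simp only [iterate_map_zero, zero_add] at hj
  have h4 : (frTrans p R i j).rTensor I y = 0 := by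
    haveI := projective_fr p R (i + j)
    refine (Module.Flat.lTensor_preserves_injective_linearMap (M := Fr p R (i + j)) I.subtype
      I.injective_subtype) ((TensorProduct.rid R _).injective ?_)
    have h5 : ∀ z : Fr p R i ⊗[R] I, TensorProduct.rid R _ (I.subtype.lTensor _ ((frTrans p R i j).rTensor I z)) =
        frTrans p R i j (TensorProduct.rid R _ (I.subtype.lTensor _ z)) := by
      intro z
      induction z using TensorProduct.induction_on with
      | zero => simp
      | tmul a b => simp
      | add a b ha hb => simp only [map_add, ha, hb]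
    rw [map_zero, map_zero, h5, hr]
    show toFr p R (i + j) ((frobenius R p)^[j] ((toFr p R i).symm (toFr p R i r))) = 0
    rw [RingEquiv.symm_apply_apply, ← hj, map_zero]
  rw [← frToClosure_trans p R i j, LinearMap.rTensor_comp_apply, h4, map_zero]

theorem faithfullyFlat_closure [Module.Projective R (FrobAlg.Twist p R)] :
    Module.FaithfullyFlat R (PerfectClosure R p) := by
  haveI := flat_closure p R
  refine Module.FaithfullyFlat.of_comap_surjective fun P => ?_
  let κ := P.asIdeal.ResidueField
  haveI : CharP κ p := by
    rcases CharP.exists κ with ⟨q, hq⟩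
    have hp : ((p : ℕ) : κ) = 0 := by
      rw [← map_natCast (algebraMap R κ), CharP.cast_eq_zero, map_zero]
    have := (CharP.cast_eq_zero_iff κ q p).1 hp
    rcases (Nat.dvd_prime Fact.out).1 this with rfl | rfl
    · exact absurd rfl (CharP.char_ne_one κ 1)
    · exact hq
  let f : PerfectClosure R p →+* PerfectClosure κ p :=
    PerfectClosure.lift R p _ ((PerfectClosure.of κ p).comp (algebraMap R κ))
  have hf : f.comp (algebraMap R (PerfectClosure R p)) = (PerfectClosure.of κ p).comp (algebraMap R κ) :=
    (PerfectClosure.lift R p (PerfectClosure κ p)).symm_apply_apply _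
  refine ⟨⟨RingHom.ker f, RingHom.ker_isPrime f⟩, PrimeSpectrum.ext ?_⟩
  rw [PrimeSpectrum.comap_asIdeal, RingHom.comap_ker, hf, RingHom.ker_comp_of_injective _
    (PerfectClosure.of κ p).injective, Ideal.ker_algebraMap_residueField]

theorem rTensor_frToClosure_injective [Module.Projective R (FrobAlg.Twist p R)] (i : ℕ) (N : Type v)
    [AddCommGroup N] [Module R N] : Function.Injective ((frToClosure p R i).rTensor N) := by
  let σ : PerfectClosure R p ≃+* PerfectClosure R p := (iterateFrobeniusEquiv (PerfectClosure R p) p i).symm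
  let gi : Fr p R i →+* PerfectClosure R p :=
    (σ : PerfectClosure R p →+* PerfectClosure R p).comp
      ((PerfectClosure.of R p).comp ((toFr p R i).symm : Fr p R i →+* R))
  have hgi : ∀ r, gi r = PerfectClosure.mk R p (i, (toFr p R i).symm r) := fun r => by
    show σ (PerfectClosure.of R p _) = _
    rw [RingEquiv.symm_apply_eq, iterateFrobeniusEquiv_apply, coe_iterateFrobenius,
      PerfectClosure.iterate_frobenius_mk]
    rfl
  letI : Algebra (Fr p R i) (PerfectClosure R p) := gi.toAlgebra
  haveI : IsScalarTower R (Fr p R i) (PerfectClosure R p) := IsScalarTower.of_algebraMap_eq fun a => by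
    have : algebraMap R (Fr p R i) a = toFr p R i ((frobenius R p)^[i] a) := by
      show toFr p R i (iterateFrobenius R p i a) = _
      rw [coe_iterateFrobenius]
    show PerfectClosure.mk R p (0, a) = gi (algebraMap R (Fr p R i) a)
    rw [this, hgi, RingEquiv.symm_apply_apply, PerfectClosure.mk_eq_iff]
    exact ⟨0, by simp⟩
  haveI : Module.FaithfullyFlat (Fr p R i) (PerfectClosure R p) := by
    haveI := faithfullyFlat_closure p R
    have h1 : (PerfectClosure.of R p).FaithfullyFlat :=
      RingHom.faithfullyFlat_algebraMap_iff.2 (inferInstance : Module.FaithfullyFlat R (PerfectClosure R p))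
    have h2 : gi.FaithfullyFlat :=
      RingHom.FaithfullyFlat.stableUnderComposition _ _
        (RingHom.FaithfullyFlat.stableUnderComposition ((toFr p R i).symm : Fr p R i →+* R) (PerfectClosure.of R p)
          (RingHom.FaithfullyFlat.of_bijective (f := ((toFr p R i).symm : Fr p R i →+* R)) (toFr p R i).symm.bijective) h1)
        (RingHom.FaithfullyFlat.of_bijective (f := (σ : PerfectClosure R p →+* PerfectClosure R p)) σ.bijective)
    exact h2
  have key : (frToClosure p R i).rTensor N = ((TensorProduct.AlgebraTensorModule.cancelBaseChange R (Fr p R i)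
      (Fr p R i) (PerfectClosure R p) N).toLinearMap.restrictScalars R).comp
        ((TensorProduct.mk (Fr p R i) (PerfectClosure R p) (Fr p R i ⊗[R] N) 1).restrictScalars R) := by
    refine TensorProduct.ext' fun r n => ?_
    simp only [LinearMap.rTensor_tmul, LinearMap.comp_apply, LinearMap.coe_restrictScalars, TensorProduct.mk_apply,
      LinearEquiv.coe_coe, TensorProduct.AlgebraTensorModule.cancelBaseChange_tmul]
    congr 1
    rw [Algebra.smul_def, mul_one]
    exact (hgi r).symm
  rw [key, LinearMap.coe_comp]
  exact (LinearEquiv.injective _).comp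
    (Module.FaithfullyFlat.tensorProduct_mk_injective (A := Fr p R i) (B := PerfectClosure R p) _)

end Groth.Agent.FrobAlgLib
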