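import Groth.Agent.FrobAlgLib.Flat
import Groth.Agent.S3191

/-!
The relative Frobenius of a smooth algebra of relative dimension `r` is finite locally free of rank `p ^ r`.
-/

set_option autoImplicit false
set_option backward.isDefEq.respectTransparency false
set_option backward.isDefEq.respectTransparency.types false

open TensorProduct CategoryTheory

universe u

namespace Groth.Agent.FrobAlgLib

theorem rankAtStalk_of_isPushout {R R' S S' : CommRingCat.{u}} {f : R ⟶ R'} {g : R ⟶ S} {f' : S ⟶ S'} {g' : R' ⟶ S'}
    (sq : IsPushout g f f' g') (hfl : f.hom.Flat) (hfin : f.hom.Finite) (q : PrimeSpectrum S) :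
    @Module.rankAtStalk S S' _ _ (@Algebra.toModule _ _ _ _ f'.hom.toAlgebra) q =
      @Module.rankAtStalk R R' _ _ (@Algebra.toModule _ _ _ _ f.hom.toAlgebra) (q.comap g.hom) := by
  algebraize [f.hom, g.hom, f'.hom, g'.hom, g'.hom.comp f.hom]
  haveI : IsScalarTower R S S' := IsScalarTower.of_algebraMap_eq' (congrArg CommRingCat.Hom.hom sq.w).symm
  have h : Algebra.IsPushout R S R' S' := CommRingCat.isPushout_iff_isPushout.mp sq
  exact Module.rankAtStalk_isBaseChange h.out q

variable (p : ℕ) [Fact p.Prime] (A : Type u) [CommRing A] [CharP A p]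
  (B : Type u) [CommRing B] [Algebra A B] [CharP B p]

theorem finite_relFrob [Algebra.FinitePresentation A B] :
    (FrobAlg.relFrob p A B).Finite ∧ (FrobAlg.relFrob p A B).FinitePresentation := by
  let BC := FrobAlg.BaseChange p A B
  let tR : A →+* BC := (jR p A B).hom
  have hTA : (FrobAlg.relFrob p A B).comp tR = algebraMap A B := RingHom.ext fun a => relFrob_right p A B a
  have h1 : tR.FinitePresentation := by
    have h0 : ((Algebra.TensorProduct.comm A (FrobAlg.Twist p A) B).toRingEquiv.toRingHom.comp
        (algebraMap (FrobAlg.Twist p A) (FrobAlg.Twist p A ⊗[A] B))).FinitePresentation :=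
      (RingHom.FinitePresentation.of_bijective (f := (Algebra.TensorProduct.comm A (FrobAlg.Twist p A) B).toRingEquiv.toRingHom)
        (Algebra.TensorProduct.comm A (FrobAlg.Twist p A) B).bijective).comp
        (RingHom.finitePresentation_algebraMap.2 inferInstance)
    exact h0.comp (RingHom.FinitePresentation.of_bijective (f := (FrobAlg.toTwist p A).toRingHom) (FrobAlg.toTwist p A).bijective)
  letI algR : Algebra BC B := (FrobAlg.relFrob p A B).toAlgebra
  letI algT : Algebra A BC := tR.toAlgebra
  haveI hfp : @Algebra.FinitePresentation A BC _ _ algT := h1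
  haveI : @IsScalarTower A BC B algT.toSMul _ _ := @IsScalarTower.of_algebraMap_eq A BC B _ _ _ algT _ _
    fun a => (RingHom.congr_fun hTA a).symm
  haveI hFP : Algebra.FinitePresentation BC B := Algebra.FinitePresentation.of_restrict_scalars_finitePresentation A BC B
  haveI : Algebra.IsIntegral BC B := ⟨(Groth.Agent.S3191.result p A B).1⟩
  exact ⟨Algebra.IsIntegral.finite, hFP⟩

theorem exists_basis_mvPolynomial (n : ℕ) :
    letI := (FrobAlg.relFrob p A (MvPolynomial (Fin n) A)).toAlgebra
    ∃ b : Module.Basis (Fin n → Fin p) (FrobAlg.BaseChange p A (MvPolynomial (Fin n) A)) (MvPolynomial (Fin n) A),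
      ∀ r, b r = MvPolynomial.monomial (remExp p n r) (1 : A) := by
  let P := MvPolynomial (Fin n) A
  let BC := FrobAlg.BaseChange p A P
  letI := (FrobAlg.relFrob p A P).toAlgebra
  obtain ⟨θ, hθ⟩ := exists_twistEquiv p A n
  haveI : Nontrivial A := CharP.nontrivial_of_char_ne_one (Fact.out : p.Prime).ne_one
  haveI : Nontrivial BC := θ.symm.injective.nontrivial
  have hb : Function.Bijective fun c : (Fin n → Fin p) →₀ BC => c.sum fun i x =>
      FrobAlg.relFrob p A P x * MvPolynomial.monomial (remExp p n i) (1 : A) := by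
    convert (bijective_expand_sum p A n).comp
      (Finsupp.mapRange.addEquiv (ι := Fin n → Fin p) θ.toAddEquiv).bijective using 1
    funext c
    simp only [Function.comp_apply, Finsupp.mapRange.addEquiv_apply]
    rw [Finsupp.sum_mapRange_index (fun i => by rw [map_zero, zero_mul])]
    exact Finsupp.sum_congr fun i _ => by rw [← hθ]; rfl
  let e : ((Fin n → Fin p) →₀ BC) ≃ₗ[BC] P :=
    LinearEquiv.ofBijective (Finsupp.linearCombination BC fun i => MvPolynomial.monomial (remExp p n i) (1 : A)) (by
      convert hb using 1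
      funext c
      simp only [Finsupp.linearCombination_apply, Algebra.smul_def]
      rfl)
  let bas : Module.Basis (Fin n → Fin p) BC P := ⟨e.symm⟩
  refine ⟨bas, fun r => ?_⟩
  rw [Module.Basis.coe_ofRepr, LinearEquiv.symm_symm]
  change Finsupp.linearCombination BC (fun i => MvPolynomial.monomial (remExp p n i) (1 : A)) (Finsupp.single r 1) = _
  rw [Finsupp.linearCombination_single, one_smul]

theorem rankAtStalk_mvPolynomial (n : ℕ) (q : PrimeSpectrum (FrobAlg.BaseChange p A (MvPolynomial (Fin n) A))) :
    @Module.rankAtStalk _ (MvPolynomial (Fin n) A) _ _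
      (@Algebra.toModule _ _ _ _ (FrobAlg.relFrob p A (MvPolynomial (Fin n) A)).toAlgebra) q = p ^ n := by
  letI := (FrobAlg.relFrob p A (MvPolynomial (Fin n) A)).toAlgebra
  obtain ⟨bas, -⟩ := exists_basis_mvPolynomial p A n
  haveI : Nontrivial A := CharP.nontrivial_of_char_ne_one (Fact.out : p.Prime).ne_one
  haveI : Nontrivial (FrobAlg.BaseChange p A (MvPolynomial (Fin n) A)) :=
    (exists_twistEquiv p A n).choose.symm.injective.nontrivial
  haveI := Module.Free.of_basis bas
  haveI := Module.Finite.of_basis bas
  rw [Module.rankAtStalk_eq_finrank_of_free, Pi.natCast_apply, Nat.cast_id, Module.finrank_eq_card_basis bas,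
    Fintype.card_fun, Fintype.card_fin, Fintype.card_fin]

variable [Algebra.Smooth A B] (r : ℕ)
    (hr : ∀ q : PrimeSpectrum B, Module.rankAtStalk (R := B) (KaehlerDifferential A B) q = r)

include hr in
theorem finite_projective_rank :
    letI := (FrobAlg.relFrob p A B).toAlgebra
    Module.Finite (FrobAlg.BaseChange p A B) B ∧ Module.Projective (FrobAlg.BaseChange p A B) B ∧
      ∀ q : PrimeSpectrum (FrobAlg.BaseChange p A B),
        Module.rankAtStalk (R := FrobAlg.BaseChange p A B) B q = p ^ r := by
  let BC := FrobAlg.BaseChange p A B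
  letI algR : Algebra BC B := (FrobAlg.relFrob p A B).toAlgebra
  haveI hfin : Module.Finite BC B := (finite_relFrob p A B).1
  haveI hfp : Algebra.FinitePresentation BC B := (finite_relFrob p A B).2
  haveI hfl : Module.Flat BC B := flat_relFrob p A B
  haveI : Module.FinitePresentation BC B := Module.FinitePresentation.of_finite_of_finitePresentation BC B
  refine ⟨hfin, Module.Flat.projective_of_finitePresentation, fun q => ?_⟩
  obtain ⟨hint, hker⟩ := Groth.Agent.S3191.result p A B
  haveI : Algebra.IsIntegral BC B := ⟨hint⟩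
  obtain ⟨Q, -, hQ, hQc⟩ := Ideal.exists_ideal_over_prime_of_isIntegral q.asIdeal (⊥ : Ideal B)
    (fun y hy => q.2.mem_of_pow_mem p (by rw [hker y hy]; exact zero_mem _))
  obtain ⟨s, hs, hstd⟩ := Algebra.Smooth.exists_span_eq_top_isStandardSmooth A B
  obtain ⟨b, hbs, hbQ⟩ : ∃ b ∈ s, b ∉ Q := by
    by_contra hc
    push Not at hc
    exact hQ.ne_top (top_le_iff.1 (hs ▸ Ideal.span_le.2 fun b hb => hc b hb))
  let C := Localization.Away b
  obtain ⟨Q', hQ'⟩ : (⟨Q, hQ⟩ : PrimeSpectrum B) ∈ Set.range (PrimeSpectrum.comap (algebraMap B C)) := by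
    rw [PrimeSpectrum.localization_away_comap_range C b]; exact hbQ
  haveI : Nontrivial C := PrimeSpectrum.nonempty_iff_nontrivial.1 ⟨Q'⟩
  haveI : CharP C p := (CharP.charP_iff_prime_eq_zero Fact.out).2 (natCast_eq_zero p A C)
  haveI : Algebra.Etale B C := Algebra.Etale.of_isLocalizationAway b
  let q' := Q'.comap (relC p A C).hom
  have hq' : q'.comap (twistMap p A C B).hom = q := by
    have e := congrArg CommRingCat.Hom.hom (twistMap_relC p A C B)
    rw [CommRingCat.hom_comp, CommRingCat.hom_comp] at e
    change PrimeSpectrum.comap (twistMap p A C B).hom (PrimeSpectrum.comap (relC p A C).hom Q') = q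
    rw [← PrimeSpectrum.comap_comp_apply, e, PrimeSpectrum.comap_comp_apply]
    refine (congrArg (PrimeSpectrum.comap (relC p A B).hom) hQ').trans ?_
    exact PrimeSpectrum.ext hQc
  haveI := hstd b hbs
  obtain ⟨n, g, hg, hget⟩ := RingHom.IsStandardSmooth.exists_etale_mvPolynomial
    (RingHom.isStandardSmooth_algebraMap.2 (hstd b hbs))
  let P := MvPolynomial (Fin n) A
  letI : Algebra P C := g.toAlgebra
  haveI : IsScalarTower A P C := IsScalarTower.of_algebraMap_eq' hg.symm
  haveI : Algebra.Etale P C := hget
  haveI : CharP P p := inferInstance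
  haveI : Nontrivial A := CharP.nontrivial_of_char_ne_one (Fact.out : p.Prime).ne_one
  have e1 := rankAtStalk_of_isPushout (isPushout_relC p A C B) hfl hfin q'
  have e2 := rankAtStalk_of_isPushout (isPushout_relC p A C P) (flat_relFrob_mvPolynomial p A n) (finite_relFrob p A P).1 q'
  rw [hq'] at e1
  refine (e1.symm.trans (e2.trans (rankAtStalk_mvPolynomial p A n _))).trans ?_
  congr 1
  haveI : Module.Free P (KaehlerDifferential A P) := Module.Free.of_basis (KaehlerDifferential.mvPolynomialBasis A (Fin n))
  haveI : Module.Finite P (KaehlerDifferential A P) := Module.Finite.of_basis (KaehlerDifferential.mvPolynomialBasis A (Fin n))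
  have k1 : Module.rankAtStalk (R := C) (KaehlerDifferential A C) Q' = n := by
    rw [← Module.rankAtStalk_eq_of_equiv (KaehlerDifferential.tensorKaehlerEquivOfFormallyEtale A P C),
      Module.rankAtStalk_baseChange, Module.rankAtStalk_eq_finrank_of_free, Pi.natCast_apply, Nat.cast_id,
      Module.finrank_eq_card_basis (KaehlerDifferential.mvPolynomialBasis A (Fin n)), Fintype.card_fin]
  have k2 : Module.rankAtStalk (R := C) (KaehlerDifferential A C) Q' = r := by
    rw [← Module.rankAtStalk_eq_of_equiv (KaehlerDifferential.tensorKaehlerEquivOfFormallyEtale A B C),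
      Module.rankAtStalk_baseChange, hr]
  exact k1.symm.trans k2

end Groth.Agent.FrobAlgLib
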