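import Groth.Agent.FrobAlgLib.Syn
import Groth.Prelude.Def_W4c2gaugesfzipsQuiet
import Groth.Prelude.Def_Frob

/-!
The absolute Frobenius of a smooth algebra over a perfect field is an extraction of `p`-th roots.
-/

set_option autoImplicit false
set_option backward.isDefEq.respectTransparency false
set_option backward.isDefEq.respectTransparency.types false

open TensorProduct CategoryTheory AlgebraicGeometry

universe u

namespace Groth.Agent.FrobAlgLib

theorem isRootTower_of_monomialBasis {p : ℕ} [Fact p.Prime] : ∀ (n : ℕ) {R S : Type u} [CommRing R] [CommRing S]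
    [Algebra R S] [Nontrivial R] (y : Fin n → S) (t : Fin n → R) (_ : ∀ i, y i ^ p = algebraMap R S (t i))
    (b : Module.Basis (Fin n → Fin p) R S) (_ : ∀ r, b r = ∏ i, y i ^ (r i : ℕ)), Quiet.IsRootTower p n R S := by
  intro n
  induction n with
  | zero =>
    intro R S _ _ _ _ y t _ b hb
    have h1 : ∀ r, b r = 1 := fun r => by rw [hb]; simp
    refine ⟨(AlgEquiv.ofBijective (Algebra.ofId R S) ⟨fun r r' h => ?_, fun s => ⟨b.repr s default, ?_⟩⟩).symm⟩
    · have := congrArg (fun s => b.repr s default) h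
      simpa [Algebra.algebraMap_eq_smul_one, ← h1 default] using this
    · conv_rhs => rw [← b.sum_repr s]
      rw [Finset.univ_unique, Finset.sum_singleton, h1, Algebra.ofId_apply, Algebra.algebraMap_eq_smul_one]
      congr 2
      exact Subsingleton.elim _ _
  | succ n ih =>
    intro R S _ _ _ _ y t hy b hb
    classical
    let F : Polynomial R := Polynomial.X ^ p - Polynomial.C (t 0)
    have hmon : F.Monic := Polynomial.monic_X_pow_sub_C _ (Fact.out : p.Prime).ne_zero
    have hdeg : (AdjoinRoot.powerBasis' hmon).dim = p := by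
      rw [AdjoinRoot.powerBasis'_dim]; exact Polynomial.natDegree_X_pow_sub_C
    let R₁ := Quiet.RootRing p R (t 0)
    let ψ : R₁ →ₐ[R] S := AdjoinRoot.liftAlgHom F (Algebra.ofId R S) (y 0) (by
      simp [F, hy 0])
    letI : Algebra R₁ S := ψ.toRingHom.toAlgebra
    haveI : IsScalarTower R R₁ S := IsScalarTower.of_algebraMap_eq fun r => (ψ.commutes r).symm
    refine ⟨t 0, inferInstance, inferInstance, ?_⟩
    let b₁ : Module.Basis (Fin p) R R₁ := (AdjoinRoot.powerBasis' hmon).basis.reindex (finCongr hdeg)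
    have hb₁ : ∀ j, b₁ j = AdjoinRoot.root F ^ (j : ℕ) := fun j => by
      change ((AdjoinRoot.powerBasis' hmon).basis.reindex (finCongr hdeg)) j = _
      rw [Module.Basis.reindex_apply, PowerBasis.basis_eq_pow, AdjoinRoot.powerBasis'_gen]
      rfl
    haveI : Nontrivial R₁ := ⟨⟨b₁ ⟨0, (Fact.out : p.Prime).pos⟩, 0, b₁.ne_zero _⟩⟩
    let y' : Fin n → S := fun i => y i.succ
    let t' : Fin n → R₁ := fun i => algebraMap R R₁ (t i.succ)
    let e : (Fin n → Fin p) → S := fun r => ∏ i, y' i ^ (r i : ℕ)
    let L : ((Fin n → Fin p) →₀ R₁) →ₗ[R₁] S := Finsupp.linearCombination R₁ e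
    let σ : ((Fin n → Fin p) × Fin p) ≃ (Fin (n + 1) → Fin p) :=
      (Equiv.prodComm _ _).trans (Fin.consEquiv fun _ => Fin p)
    let bF : Module.Basis ((Fin n → Fin p) × Fin p) R ((Fin n → Fin p) →₀ R₁) :=
      (Finsupp.basis fun _ : Fin n → Fin p => b₁).reindex (Equiv.sigmaEquivProd _ _)
    have hL : L.restrictScalars R = (bF.equiv b σ).toLinearMap := by
      refine bF.ext fun rj => ?_
      obtain ⟨r, j⟩ := rj
      rw [LinearEquiv.coe_coe, Module.Basis.equiv_apply, hb, LinearMap.restrictScalars_apply,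
        Module.Basis.reindex_apply]
      simp only [Equiv.sigmaEquivProd_symm_apply, Finsupp.coe_basis, L, Finsupp.linearCombination_single,
        Algebra.smul_def]
      rw [hb₁]
      change ψ (AdjoinRoot.root F ^ (j : ℕ)) * e r = _
      rw [map_pow, AdjoinRoot.liftAlgHom_root, Fin.prod_univ_succ]
      rfl
    have hbij : Function.Bijective L := by
      change Function.Bijective (L.restrictScalars R)
      rw [hL]
      exact (bF.equiv b σ).bijective
    let b' : Module.Basis (Fin n → Fin p) R₁ S := ⟨(LinearEquiv.ofBijective L hbij).symm⟩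
    refine ih y' t' (fun i => ?_) b' fun r => ?_
    · rw [← IsScalarTower.algebraMap_apply]; exact hy _
    · rw [Module.Basis.coe_ofRepr, LinearEquiv.symm_symm]
      change L (Finsupp.single r 1) = _
      simp [L, e]

theorem specMap_frobenius (p : ℕ) [Fact p.Prime] (A : Type u) [CommRing A] [CharP A p] :
    Spec.map (CommRingCat.ofHom (frobenius A p)) = FrobSch.frob (Spec (CommRingCat.of A)) p := by
  refine ext_of_isAffine ?_
  ext s
  have h := congrArg (fun k => k.hom s) (Scheme.ΓSpecIso_naturality (CommRingCat.ofHom (frobenius A p)))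
  rw [FrobSch.frob_appTop]
  apply (Scheme.ΓSpecIso (CommRingCat.of A)).commRingCatIsoToRingEquiv.injective
  exact h.trans (map_pow (Scheme.ΓSpecIso (CommRingCat.of A)).hom.hom s p).symm

variable (p : ℕ) [Fact p.Prime] (k : Type u) [Field k] [CharP k p] [PerfectRing k p]
  (A : Type u) [CommRing A] [Algebra k A] [CharP A p] [Algebra.Smooth k A]

include k in
theorem flat_frobenius_of_smooth : (frobenius A p).Flat := by
  haveI : IsIso (frobC p k) :=
    (RingEquiv.ofBijective (frobenius k p) (PerfectRing.bijective_frobenius (R := k) (p := p))).toCommRingCatIso.isIso_hom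
  haveI : IsIso (jL p k A) := (isPushout_twist p k A).isIso_inl_of_isIso
  rw [show frobenius A p = (relC p k A).hom.comp (jL p k A).hom from congrArg CommRingCat.Hom.hom (jL_relC p k A).symm]
  exact (RingHom.Flat.of_bijective (ConcreteCategory.bijective_of_isIso (jL p k A))).comp (flat_relFrob p k A)

include k in
theorem faithfullyFlat_frobenius_of_smooth : (frobenius A p).FaithfullyFlat := by
  refine RingHom.FaithfullyFlat.iff_flat_and_comap_surjective.2 ⟨flat_frobenius_of_smooth p k A, fun q => ⟨q, ?_⟩⟩
  ext a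
  change a ^ p ∈ q.asIdeal ↔ _
  exact q.2.pow_mem_iff_mem p (Fact.out : p.Prime).pos

include k in
theorem isPthRoot_frobenius : Quiet.IsPthRoot p (Spec.map (CommRingCat.ofHom (frobenius A p))) := by
  rw [specMap_frobenius]
  intro x
  obtain ⟨s, hs, hstd⟩ := Algebra.Smooth.exists_span_eq_top_isStandardSmooth k A
  let q : PrimeSpectrum A := x
  obtain ⟨a, has, haq⟩ : ∃ a ∈ s, a ∉ q.asIdeal := by
    by_contra hc
    push Not at hc
    exact q.2.ne_top (top_le_iff.1 (hs ▸ Ideal.span_le.2 fun b hb => hc b hb))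
  let U : (Spec (CommRingCat.of A)).Opens := PrimeSpectrum.basicOpen a
  have hU : IsAffineOpen U := by
    have e : U = (Spec (CommRingCat.of A)).basicOpen ((Scheme.ΓSpecIso (CommRingCat.of A)).inv a) :=
      (basicOpen_eq_of_affine (R := CommRingCat.of A) a).symm
    rw [e]
    exact (isAffineOpen_top _).basicOpen _
  refine ⟨⟨U, hU⟩, haq, hU, ?_⟩
  haveI : Nonempty U := ⟨⟨x, haq⟩⟩
  let L := Γ(Spec (CommRingCat.of A), U)
  haveI hLc : CharP L p := (CharP.charP_iff_prime_eq_zero Fact.out).2 (FrobSch.natCast_eq_zero_app _ p U)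
  letI algA : Algebra A L := StructureSheaf.openAlgebra A _
  haveI : IsLocalization.Away a L := StructureSheaf.IsLocalization.to_basicOpen A a
  letI algk : Algebra k L := ((algebraMap A L).comp (algebraMap k A)).toAlgebra
  haveI : IsScalarTower k A L := IsScalarTower.of_algebraMap_eq' rfl
  haveI := hstd a has
  obtain ⟨n, g, hg, hget⟩ := RingHom.IsStandardSmooth.exists_etale_mvPolynomial
    (RingHom.isStandardSmooth_algebraMap.2 (hstd a has))
  let e : Localization.Away a ≃ₐ[A] L := IsLocalization.algEquiv (Submonoid.powers a) _ _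
  letI : Algebra (MvPolynomial (Fin n) k) L := (e.toRingEquiv.toRingHom.comp g).toAlgebra
  haveI : IsScalarTower k (MvPolynomial (Fin n) k) L := IsScalarTower.of_algebraMap_eq fun c => by
    change algebraMap A L (algebraMap k A c) = e (g (MvPolynomial.C c))
    rw [show g (MvPolynomial.C c) = algebraMap k (Localization.Away a) c from RingHom.congr_fun hg c,
      IsScalarTower.algebraMap_apply k A (Localization.Away a), e.commutes]
  haveI : Algebra.Etale (MvPolynomial (Fin n) k) L :=
    RingHom.Etale.stableUnderComposition _ _ hget (RingHom.Etale.of_bijective (f := e.toRingEquiv.toRingHom) e.bijective)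
  let σ := (RingEquiv.ofBijective (frobenius k p) (PerfectRing.bijective_frobenius (R := k) (p := p))).toCommRingCatIso
  haveI : IsIso (frobC p k) := σ.isIso_hom
  have sq : IsPushout (alg k L) (frobC p k) (𝟙 (CommRingCat.of L)) (σ.inv ≫ alg k L) :=
    IsPushout.of_vert_isIso ⟨by rw [Category.comp_id, show frobC p k = σ.hom from rfl, Iso.hom_inv_id_assoc]⟩
  have hr : (σ.inv ≫ alg k L) ≫ frobC p L = alg k L := by
    rw [Category.assoc, Iso.inv_comp_eq]
    ext c
    exact (map_pow (algebraMap k L) c p).symm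
  let F : CommRingCat.of L ⟶ CommRingCat.of L := (FrobSch.frob (Spec (CommRingCat.of A)) p).app U
  have hF : F = frobC p L := by ext z; exact FrobSch.frob_app _ p U z
  obtain ⟨y, t, hy, b, hb⟩ := exists_monomialBasis_of_isPushout p n sq F (by rw [hF, Category.id_comp])
    (by rw [hF]; exact hr)
  exact ⟨n, @isRootTower_of_monomialBasis p _ n L L _ _ F.hom.toAlgebra _ y t hy b hb⟩

theorem syntomic_ff_of_bijective {m : ℕ} {R S : Type u} [CommRing R] [CommRing S] (f : R →+* S) (y : Fin m → S) (t : Fin m → R)
    (hy : ∀ i, y i ^ p = f (t i))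
    (h : Function.Bijective fun c : (Fin m → Fin p) →₀ R => c.sum fun r x => f x * ∏ i, y i ^ (r i : ℕ)) :
    @Synt.IsSyntomic R _ S _ f.toAlgebra ∧ f.FaithfullyFlat := by
  algebraize [f]
  have hL : Function.Bijective (Finsupp.linearCombination R fun r : Fin m → Fin p => ∏ i, y i ^ (r i : ℕ)) := by
    convert h using 1
    funext c
    simp only [Finsupp.linearCombination_apply, Algebra.smul_def]
    rfl
  let e := LinearEquiv.ofBijective _ hL
  let b : Module.Basis (Fin m → Fin p) R S := ⟨e.symm⟩
  refine ⟨isSyntomic_of_monomialBasis y t hy b fun r => ?_, ?_⟩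
  · rw [Module.Basis.coe_ofRepr, LinearEquiv.symm_symm]
    change Finsupp.linearCombination R (fun r : Fin m → Fin p => ∏ i, y i ^ (r i : ℕ)) (Finsupp.single r 1) = _
    rw [Finsupp.linearCombination_single, one_smul]
  · haveI : Nonempty (Fin m → Fin p) := ⟨fun _ => ⟨0, (Fact.out : p.Prime).pos⟩⟩
    exact Module.FaithfullyFlat.of_linearEquiv R _ e.symm

theorem expand_syntomic_faithfullyFlat (A : Type u) [CommRing A] (m : ℕ)
    (φ : MvPolynomial (Fin m) A →ₐ[A] MvPolynomial (Fin m) A)
    (hφ : ∀ i : Fin m, φ (MvPolynomial.X i) = MvPolynomial.X i ^ p) :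
    @Synt.IsSyntomic (MvPolynomial (Fin m) A) _ (MvPolynomial (Fin m) A) _ φ.toRingHom.toAlgebra ∧
      φ.toRingHom.FaithfullyFlat := by
  obtain rfl : φ = MvPolynomial.expand p := MvPolynomial.algHom_ext fun i => by rw [hφ, MvPolynomial.expand_X]
  refine syntomic_ff_of_bijective p _ (fun i => MvPolynomial.X i) (fun i => MvPolynomial.X i)
    (fun i => (MvPolynomial.expand_X (p := p) i).symm) ?_
  convert bijective_expand_sum p A m using 2 with c
  refine Finset.sum_congr rfl fun r _ => ?_
  dsimp only
  rw [MvPolynomial.monomial_eq, Finsupp.prod_fintype _ _ (fun i => pow_zero _)]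
  simp [remExp]

end Groth.Agent.FrobAlgLib
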