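import Groth.Agent.FrobAlgLib.Rank
import Groth.Prelude.Def_RegImm

/-!
A finite free algebra with a basis of reduced monomials in elements with scalar `p`-th powers is syntomic;
the relative Frobenius of a standard smooth algebra is of this kind.
-/

set_option autoImplicit false
set_option backward.isDefEq.respectTransparency false
set_option backward.isDefEq.respectTransparency.types false

open TensorProduct CategoryTheory

universe u

namespace Groth.Agent.FrobAlgLib

theorem isGlobalCI_of_monomialBasis {p : ℕ} [Fact p.Prime] {n : ℕ} (k : Type u) [Field k] {S : Type u} [CommRing S] [Algebra k S]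
    (y : Fin n → S) (t : Fin n → k) (hy : ∀ i, y i ^ p = algebraMap k S (t i))
    (e : Module.Basis (Fin n → Fin p) k S) (he : ∀ r, e r = ∏ i, y i ^ (r i : ℕ)) :
    Synt.IsGlobalCI k S := by
  classical
  let φ : MvPolynomial (Fin n) k →ₐ[k] S := MvPolynomial.aeval y
  let F : Fin n → MvPolynomial (Fin n) k := fun i => MvPolynomial.X i ^ p - MvPolynomial.C (t i)
  let J := Ideal.span (Set.range F)
  let m : (Fin n → Fin p) → MvPolynomial (Fin n) k := fun r => ∏ i, MvPolynomial.X i ^ (r i : ℕ)
  have hm : ∀ r, φ (m r) = e r := fun r => by simp [φ, m, he]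
  have hJ : J ≤ RingHom.ker φ.toRingHom := Ideal.span_le.2 (by
    rintro _ ⟨i, rfl⟩
    show φ (F i) = 0
    simp [φ, F, hy])
  have hred : ∀ f, ∃ c : (Fin n → Fin p) → k, f - ∑ r, MvPolynomial.C (c r) * m r ∈ J := fun f => by
    induction f using MvPolynomial.induction_on' with
    | monomial d a =>
      let r₀ : Fin n → Fin p := fun i => ⟨d i % p, Nat.mod_lt _ (Fact.out : p.Prime).pos⟩
      refine ⟨Pi.single r₀ (a * ∏ i, t i ^ (d i / p)), ?_⟩
      rw [Finset.sum_eq_single r₀ (fun r _ hr => by rw [Pi.single_eq_of_ne hr, map_zero, zero_mul])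
        (fun h => absurd (Finset.mem_univ _) h), Pi.single_eq_same, ← Ideal.Quotient.eq]
      have hX : ∀ i, Ideal.Quotient.mk J (MvPolynomial.X i) ^ p = Ideal.Quotient.mk J (MvPolynomial.C (t i)) := fun i => by
        rw [← map_pow, Ideal.Quotient.eq]
        exact Ideal.subset_span ⟨i, rfl⟩
      rw [MvPolynomial.monomial_eq, Finsupp.prod_fintype _ _ (fun i => pow_zero _)]
      simp only [m, map_mul, map_prod, map_pow]
      rw [mul_assoc, ← Finset.prod_mul_distrib]
      congr 1
      refine Finset.prod_congr rfl fun i _ => ?_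
      rw [← hX, ← pow_mul, ← pow_add]
      exact congrArg _ (Nat.div_add_mod (d i) p).symm
    | add f g hf hg =>
      obtain ⟨c, hc⟩ := hf
      obtain ⟨c', hc'⟩ := hg
      refine ⟨c + c', ?_⟩
      have := J.add_mem hc hc'
      simp only [Pi.add_apply, map_add, add_mul, Finset.sum_add_distrib] at *
      convert this using 1
      ring
  have hsurj : Function.Surjective φ := fun s => by
    refine ⟨∑ r, MvPolynomial.C (e.repr s r) * m r, ?_⟩
    simp only [map_sum, map_mul, hm, MvPolynomial.aeval_C, φ]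
    conv_rhs => rw [← e.sum_repr s]
    exact Finset.sum_congr rfl fun r _ => by
      rw [Algebra.smul_def, ← hm r]
  have hker : RingHom.ker φ.toRingHom = J := by
    refine le_antisymm (fun f hf => ?_) hJ
    obtain ⟨c, hc⟩ := hred f
    have h0 : φ (∑ r, MvPolynomial.C (c r) * m r) = 0 := by
      have h1 : φ (f - ∑ r, MvPolynomial.C (c r) * m r) = 0 := hJ hc
      rw [map_sub, show φ f = 0 from hf, zero_sub, neg_eq_zero] at h1
      exact h1
    have hc0 : ∀ r, c r = 0 := by
      refine Fintype.linearIndependent_iff.1 e.linearIndependent c ?_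
      rw [← h0, map_sum]
      refine Finset.sum_congr rfl fun r _ => ?_
      rw [map_mul, hm, Algebra.smul_def]
      simp [φ]
    simpa [hc0] using hc
  haveI : Module.Finite k S := Module.Finite.of_basis e
  haveI : IsArtinianRing S := IsArtinianRing.of_finite k S
  haveI : Nontrivial S := ⟨⟨e (fun _ => ⟨0, (Fact.out : p.Prime).pos⟩), 0, e.ne_zero _⟩⟩
  refine Or.inr ⟨n, n, le_rfl, φ, F, hsurj, hker, ?_⟩
  rw [Nat.sub_self]
  exact le_antisymm (Ring.krullDimLE_iff.1 inferInstance) ringKrullDim_nonneg_of_nontrivial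

theorem isSyntomic_of_monomialBasis {p : ℕ} [Fact p.Prime] {n : ℕ} {R S : Type u} [CommRing R] [CommRing S] [Algebra R S]
    (y : Fin n → S) (t : Fin n → R) (hy : ∀ i, y i ^ p = algebraMap R S (t i))
    (b : Module.Basis (Fin n → Fin p) R S) (hb : ∀ r, b r = ∏ i, y i ^ (r i : ℕ)) :
    Synt.IsSyntomic R S := by
  haveI := Module.Free.of_basis b
  haveI := Module.Finite.of_basis b
  haveI : Module.FinitePresentation R S := Module.finitePresentation_of_projective R S
  haveI : Algebra.FinitePresentation R S := inferInstance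
  refine ⟨inferInstance, inferInstance, fun q => ⟨inferInstance, fun P => ⟨1, P.2.one_notMem, ?_⟩⟩⟩
  let K := q.asIdeal.ResidueField
  let Fib := q.asIdeal.Fiber S
  let e₁ : Fib ≃ₐ[K] Localization.Away (1 : Fib) :=
    (IsLocalization.atOne Fib (Localization.Away (1 : Fib))).restrictScalars K
  refine isGlobalCI_of_monomialBasis K (fun i => e₁ ((1 : K) ⊗ₜ[R] y i)) (fun i => algebraMap R K (t i))
    (fun i => ?_) ((Algebra.TensorProduct.basis K b).map e₁.toLinearEquiv) fun r => ?_
  · rw [← map_pow, Algebra.TensorProduct.tmul_pow, one_pow, hy, ← e₁.commutes]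
    congr 1
    rw [Algebra.algebraMap_eq_smul_one, ← TensorProduct.smul_tmul, ← Algebra.algebraMap_eq_smul_one]
    rfl
  · rw [Module.Basis.map_apply, Algebra.TensorProduct.basis_apply, hb]
    change e₁ ((Algebra.TensorProduct.includeRight : S →ₐ[R] Fib) (∏ i, y i ^ (r i : ℕ))) = _
    rw [map_prod, map_prod]
    refine Finset.prod_congr rfl fun i _ => ?_
    rw [map_pow, map_pow]
    rfl

variable (p : ℕ) [Fact p.Prime]

theorem exists_monomialBasis_of_isPushout {A B : Type u} [CommRing A] [CommRing B] [Algebra A B] [CharP A p] [CharP B p] (n : ℕ)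
    [Algebra (MvPolynomial (Fin n) A) B] [IsScalarTower A (MvPolynomial (Fin n) A) B]
    [Algebra.Etale (MvPolynomial (Fin n) A) B]
    {W : CommRingCat.{u}} {inl : CommRingCat.of B ⟶ W} {inr : CommRingCat.of A ⟶ W}
    (sq : IsPushout (alg A B) (frobC p A) inl inr) (F : W ⟶ CommRingCat.of B)
    (hl : inl ≫ F = frobC p B) (hr : inr ≫ F = alg A B) :
    letI := F.hom.toAlgebra
    ∃ (y : Fin n → B) (t : Fin n → W), (∀ i, y i ^ p = algebraMap W B (t i)) ∧
      ∃ b : Module.Basis (Fin n → Fin p) W B, ∀ r, b r = ∏ i, y i ^ (r i : ℕ) := by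
  let P := MvPolynomial (Fin n) A
  let e := (isPushout_twist p A B).isoIsPushout _ _ sq
  have hF : e.hom ≫ F = relC p A B := by
    refine (isPushout_twist p A B).hom_ext ?_ ?_
    · rw [IsPushout.inl_isoIsPushout_hom_assoc, hl, jL_relC]
    · rw [IsPushout.inr_isoIsPushout_hom_assoc, hr, jR_relC]
  have sq' : IsPushout (twistMap p A B P ≫ e.hom) (relC p A P) F (alg P B) :=
    (isPushout_relC p A B P).of_iso (Iso.refl _) e (Iso.refl _) (Iso.refl _) (by simp) (by simp) (by simp [hF]) (by simp)
  letI := F.hom.toAlgebra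
  letI : Algebra (FrobAlg.BaseChange p A P) P := (FrobAlg.relFrob p A P).toAlgebra
  letI : Algebra (FrobAlg.BaseChange p A P) W := (twistMap p A B P ≫ e.hom).hom.toAlgebra
  letI : Algebra (FrobAlg.BaseChange p A P) B := ((algebraMap P B).comp (FrobAlg.relFrob p A P)).toAlgebra
  haveI : IsScalarTower (FrobAlg.BaseChange p A P) P B := IsScalarTower.of_algebraMap_eq' rfl
  haveI : IsScalarTower (FrobAlg.BaseChange p A P) W B :=
    IsScalarTower.of_algebraMap_eq' (congrArg CommRingCat.Hom.hom sq'.w).symm
  have hpo : Algebra.IsPushout (FrobAlg.BaseChange p A P) W P B := CommRingCat.isPushout_iff_isPushout.mp sq'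
  obtain ⟨bas, hbas⟩ := exists_basis_mvPolynomial p A n
  refine ⟨fun i => algebraMap P B (MvPolynomial.X i),
    fun i => algebraMap (FrobAlg.BaseChange p A P) W ((MvPolynomial.X i : P) ⊗ₜ[A] 1), fun i => ?_,
    hpo.out.basis bas, fun r => ?_⟩
  · rw [← map_pow, ← relFrob_left p A P, ← IsScalarTower.algebraMap_apply]
    rfl
  · rw [IsBaseChange.basis_apply, hbas]
    change algebraMap P B (MvPolynomial.monomial (remExp p n r) (1 : A)) = _
    rw [MvPolynomial.monomial_eq, Finsupp.prod_fintype _ _ (fun i => pow_zero _), map_one, one_mul, map_prod]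
    simp [remExp, map_pow]

theorem isSyntomic_of_isPushout {A B : Type u} [CommRing A] [CommRing B] [Algebra A B] [CharP A p] [CharP B p] (n : ℕ)
    [Algebra (MvPolynomial (Fin n) A) B] [IsScalarTower A (MvPolynomial (Fin n) A) B]
    [Algebra.Etale (MvPolynomial (Fin n) A) B]
    {W : CommRingCat.{u}} {inl : CommRingCat.of B ⟶ W} {inr : CommRingCat.of A ⟶ W}
    (sq : IsPushout (alg A B) (frobC p A) inl inr) (F : W ⟶ CommRingCat.of B)
    (hl : inl ≫ F = frobC p B) (hr : inr ≫ F = alg A B) :
    letI := F.hom.toAlgebra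
    Synt.IsSyntomic W B := by
  letI := F.hom.toAlgebra
  obtain ⟨y, t, hy, b, hb⟩ := exists_monomialBasis_of_isPushout p n sq F hl hr
  exact isSyntomic_of_monomialBasis y t hy b hb

end Groth.Agent.FrobAlgLib
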