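import Mathlib

/-!
# Tensor products and products of modules
-/

set_option autoImplicit false
universe u v w

namespace Groth.Agent.FrobAlgLib

open TensorProduct

variable {R : Type u} [CommRing R] {P : Type v} [AddCommGroup P] [Module R P] {ι : Type} {N : ι → Type w}
  [∀ i, AddCommGroup (N i)] [∀ i, Module R (N i)] (g : P →ₗ[R] Π i, N i)

/-- `M ⊗ P → Π i, M ⊗ N i`. -/
noncomputable def tensorPi (M : Type*) [AddCommGroup M] [Module R M] : M ⊗[R] P →ₗ[R] Π i, M ⊗[R] N i :=
  LinearMap.pi fun i => ((LinearMap.proj i).comp g).lTensor M

theorem tensorPi_naturality {M M' : Type*} [AddCommGroup M] [Module R M] [AddCommGroup M'] [Module R M']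
    (f : M →ₗ[R] M') (x : M ⊗[R] P) (i : ι) :
    tensorPi g M' (f.rTensor P x) i = f.rTensor (N i) (tensorPi g M x i) := by
  simp only [tensorPi, LinearMap.pi_apply]
  induction x using TensorProduct.induction_on with
  | zero => simp
  | tmul a b => simp
  | add a b ha hb => simp [map_add, ha, hb]

theorem coord_tensorPi {κ : Type*} [DecidableEq κ] (x : (κ →₀ R) ⊗[R] P) (i : ι) (k : κ) :
    TensorProduct.finsuppScalarLeft R (N i) κ (tensorPi g (κ →₀ R) x i) k =
      g (TensorProduct.finsuppScalarLeft R P κ x k) i := by
  simp only [tensorPi, LinearMap.pi_apply]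
  induction x using TensorProduct.induction_on with
  | zero => simp
  | tmul a b => simp [TensorProduct.finsuppScalarLeft_apply_tmul_apply]
  | add a b ha hb => simp [map_add, ha, hb]

theorem tensorPi_injective (hg : Function.Injective g) (M : Type*) [AddCommGroup M] [Module R M]
    [Module.Projective R M] : Function.Injective (tensorPi g M) := by
  classical
  obtain ⟨s, hs⟩ := Module.Projective.out (R := R) (P := M)
  rw [injective_iff_map_eq_zero]
  intro x hx
  have h1 : s.rTensor P x = 0 := by
    refine (TensorProduct.finsuppScalarLeft R P M).injective ?_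
    rw [map_zero]
    refine Finsupp.ext fun k => hg ?_
    funext i
    rw [← coord_tensorPi, tensorPi_naturality, hx]
    simp
  have h2 := congrArg ((Finsupp.linearCombination R (id : M → M)).rTensor P) h1
  rwa [map_zero, ← LinearMap.rTensor_comp_apply,
    show (Finsupp.linearCombination R (id : M → M)).comp s = LinearMap.id from LinearMap.ext hs,
    LinearMap.rTensor_id, LinearMap.id_apply] at h2

theorem tensorPi_range_of_coord (M : Type*) [AddCommGroup M] [Module R M]
    [Module.Finite R M] [Module.Projective R M] (y : Π i, M ⊗[R] N i)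
    (hy : ∀ c : M →ₗ[R] R, (fun i => TensorProduct.lid R (N i) (c.rTensor (N i) (y i))) ∈ LinearMap.range g) :
    y ∈ LinearMap.range (tensorPi g M) := by
  classical
  obtain ⟨n, q, j, -, -, hqj⟩ := Module.Finite.exists_comp_eq_id_of_projective R M
  choose a ha using fun k => hy ((LinearMap.proj k).comp j)
  refine ⟨∑ k, q (Pi.single k 1) ⊗ₜ[R] a k, funext fun i => ?_⟩
  have key : ∀ z : M ⊗[R] N i, ∑ k : Fin n, q (Pi.single k 1) ⊗ₜ[R]
      TensorProduct.lid R (N i) (((LinearMap.proj k).comp j).rTensor (N i) z) = z := by
    intro z
    induction z using TensorProduct.induction_on with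
    | zero => simp
    | tmul m b =>
      simp only [LinearMap.rTensor_tmul, TensorProduct.lid_tmul, LinearMap.comp_apply, LinearMap.proj_apply]
      simp only [← TensorProduct.smul_tmul, ← TensorProduct.sum_tmul, ← map_smul, ← map_sum]
      congr 1
      have : ∑ k : Fin n, j m k • Pi.single (M := fun _ => R) k 1 = j m := by
        funext l; simp [Finset.sum_apply, Pi.single_apply]
      rw [this]
      exact LinearMap.congr_fun hqj m
    | add a b ha hb => simp only [map_add, TensorProduct.tmul_add, Finset.sum_add_distrib, ha, hb]
  simp only [map_sum, Finset.sum_apply, tensorPi, LinearMap.pi_apply, LinearMap.lTensor_tmul, LinearMap.comp_apply,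
    LinearMap.proj_apply]
  rw [← key (y i)]
  exact Finset.sum_congr rfl fun k _ => by rw [congrFun (ha k) i]

end Groth.Agent.FrobAlgLib
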